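import Mathlib

/-!
Natural bijective correspondences between lines given by unimodular vectors over local
algebras are linear.
-/

set_option autoImplicit false
set_option backward.isDefEq.respectTransparency.types false
set_option maxHeartbeats 2000000
universe u

namespace Groth.Agent.SBAut
open MvPolynomial

variable (L : Type u) [Field L] (ι : Type) [Fintype ι] [DecidableEq ι]

/-- some coordinate is a unit -/
def Uni {ι : Type} {R : Type*} [Monoid R] (v : ι → R) : Prop := ∃ i, IsUnit (v i)

omit [Fintype ι] [DecidableEq ι] in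
lemma Uni.map {R S : Type*} [Monoid R] [Monoid S] {v : ι → R} (h : Uni v)
    {F : Type*} [FunLike F R S] [MonoidHomClass F R S] (φ : F) : Uni (fun i => φ (v i)) :=
  h.imp fun _ hi => hi.map φ

omit [Fintype ι] [DecidableEq ι] in
lemma Uni.smul {R : Type*} [CommMonoid R] {v : ι → R} (h : Uni v) (c : Rˣ) :
    Uni ((c : R) • v) :=
  h.imp fun _ hi => c.isUnit.mul hi

/-- a natural bijective correspondence of lines -/
structure LineCorr where
  P : ∀ (R : Type u) [CommRing R] [Algebra L R] [IsLocalRing R], (ι → R) → (ι → R) → Prop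
  uni : ∀ {R : Type u} [CommRing R] [Algebra L R] [IsLocalRing R] {v w : ι → R},
    P R v w → Uni v ∧ Uni w
  tot : ∀ {R : Type u} [CommRing R] [Algebra L R] [IsLocalRing R] {v : ι → R},
    Uni v → ∃ w, P R v w
  tot' : ∀ {R : Type u} [CommRing R] [Algebra L R] [IsLocalRing R] {w : ι → R},
    Uni w → ∃ v, P R v w
  uniq : ∀ {R : Type u} [CommRing R] [Algebra L R] [IsLocalRing R] {v w w' : ι → R},
    P R v w → P R v w' → ∃ c : Rˣ, w' = (c : R) • w
  uniq' : ∀ {R : Type u} [CommRing R] [Algebra L R] [IsLocalRing R] {v v' w : ι → R},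
    P R v w → P R v' w → ∃ c : Rˣ, v' = (c : R) • v
  scal : ∀ {R : Type u} [CommRing R] [Algebra L R] [IsLocalRing R] {v w : ι → R} (c : Rˣ),
    P R v w → P R ((c : R) • v) w
  scal' : ∀ {R : Type u} [CommRing R] [Algebra L R] [IsLocalRing R] {v w : ι → R} (c : Rˣ),
    P R v w → P R v ((c : R) • w)
  map : ∀ {R S : Type u} [CommRing R] [Algebra L R] [IsLocalRing R]
    [CommRing S] [Algebra L S] [IsLocalRing S] (φ : R →ₐ[L] S) {v w : ι → R},
    P R v w → P S (fun i => φ (v i)) (fun i => φ (w i))

variable {L ι}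

/-- the inverse correspondence -/
def LineCorr.symm (T : LineCorr L ι) : LineCorr L ι where
  P R _ _ _ v w := T.P R w v
  uni h := (T.uni h).symm
  tot h := T.tot' h
  tot' h := T.tot h
  uniq h h' := T.uniq' h h'
  uniq' h h' := T.uniq h h'
  scal c h := T.scal' c h
  scal' c h := T.scal c h
  map φ _ _ h := T.map φ h

omit [Fintype ι] [DecidableEq ι] in
lemma dvd_of_coprime_family {A : Type*} [CommRing A] [IsDomain A] [UniqueFactorizationMonoid A]
    {f : ι → A} (hcop : ∀ d, (∀ i, d ∣ f i) → IsUnit d) (d : A) :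
    ∀ a : A, (∀ i, d ∣ a * f i) → d ∣ a := by
  induction d using UniqueFactorizationMonoid.induction_on_prime with
  | h₁ =>
    intro a h
    by_contra ha
    have : ∀ i, (0 : A) ∣ f i := fun i => by
      have := h i
      rw [zero_dvd_iff] at this ⊢
      exact (mul_eq_zero.mp this).resolve_left (fun h0 => ha (by simp [h0]))
    exact not_isUnit_zero (hcop 0 this)
  | h₂ x hx => intro a _; exact hx.dvd
  | h₃ e p _ hp ih =>
    intro a h
    have hpa : p ∣ a := by
      by_contra hpa
      refine hp.not_isUnit (hcop p fun i => ?_)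
      exact (hp.dvd_or_dvd ((dvd_mul_right p e).trans (h i))).resolve_left hpa
    obtain ⟨a', rfl⟩ := hpa
    refine mul_dvd_mul_left p (ih a' fun i => ?_)
    have := h i
    rw [mul_assoc] at this
    exact (mul_dvd_mul_iff_left hp.ne_zero).mp this

omit [DecidableEq ι] in
lemma exists_coprime_rep {A K : Type*} [CommRing A] [IsDomain A] [UniqueFactorizationMonoid A]
    [Field K] [Algebra A K] [IsFractionRing A K] (v : ι → K) (hv : ∃ i, v i ≠ 0) :
    ∃ f : ι → A, (∀ d, (∀ i, d ∣ f i) → IsUnit d) ∧
      ∃ c : K, c ≠ 0 ∧ ∀ i, algebraMap A K (f i) = c * v i := by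
  obtain ⟨i0, hi0⟩ := hv
  obtain ⟨b, hb⟩ := IsLocalization.exist_integer_multiples_of_finite (nonZeroDivisors A) v
  choose f0 hf0 using hb
  have hbne : algebraMap A K b ≠ 0 := IsFractionRing.to_map_ne_zero_of_mem_nonZeroDivisors b.2
  suffices H : ∀ a : A, ∀ f : ι → A, f i0 = a →
      (∃ c : K, c ≠ 0 ∧ ∀ i, algebraMap A K (f i) = c * v i) →
      ∃ f : ι → A, (∀ d, (∀ i, d ∣ f i) → IsUnit d) ∧
        ∃ c : K, c ≠ 0 ∧ ∀ i, algebraMap A K (f i) = c * v i from
    H _ f0 rfl ⟨algebraMap A K b, hbne, fun i => by rw [hf0, Algebra.smul_def]⟩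
  intro a
  induction a using (wellFounded_dvdNotUnit (α := A)).induction with
  | _ a ih =>
  intro f hfa ⟨c, hc, hf⟩
  by_cases hcop : ∀ d, (∀ i, d ∣ f i) → IsUnit d
  · exact ⟨f, hcop, c, hc, hf⟩
  push Not at hcop
  obtain ⟨d, hd, hdu⟩ := hcop
  choose g hg using hd
  have hfne : f i0 ≠ 0 := by
    intro h0
    have := hf i0
    rw [h0, map_zero] at this
    exact mul_ne_zero hc hi0 this.symm
  have hdne : d ≠ 0 := by rintro rfl; exact hfne (by rw [hg i0, zero_mul])
  have hgne : g i0 ≠ 0 := by intro h0; exact hfne (by rw [hg i0, h0, mul_zero])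
  have hdK : algebraMap A K d ≠ 0 := (map_ne_zero_iff _ (IsFractionRing.injective A K)).mpr hdne
  refine ih (g i0) ⟨hgne, d, hdu, ?_⟩ g rfl ⟨c / algebraMap A K d, div_ne_zero hc hdK, fun i => ?_⟩
  · rw [← hfa, hg i0, mul_comm]
  · have := hf i
    rw [hg i, map_mul] at this
    field_simp
    linear_combination this

omit [Fintype ι] [DecidableEq ι] in
lemma coeff_aeval_scale (f : MvPolynomial ι L) (k : ℕ) :
    (aeval (fun i => Polynomial.C (X i : MvPolynomial ι L) * Polynomial.X) f).coeff k =
      homogeneousComponent k f := by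
  induction f using MvPolynomial.induction_on' with
  | monomial m a =>
    have : aeval (fun i => Polynomial.C (X i : MvPolynomial ι L) * Polynomial.X) (monomial m a) =
        Polynomial.C (monomial m a) * Polynomial.X ^ m.degree := by
      rw [aeval_monomial]
      simp only [mul_pow, Finsupp.prod, Finset.prod_mul_distrib, ← map_pow, ← map_prod,
        Finset.prod_pow_eq_pow_sum]
      rw [show monomial m a = C a * ∏ i ∈ m.support, X i ^ m i from monomial_eq]
      rw [map_mul, ← Finsupp.degree_apply]
      simp only [IsScalarTower.algebraMap_apply L (MvPolynomial ι L) (Polynomial (MvPolynomial ι L)),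
        MvPolynomial.algebraMap_eq, Polynomial.algebraMap_eq]
      ring
    rw [this, Polynomial.coeff_C_mul_X_pow]
    ext n
    rw [coeff_homogeneousComponent]
    rcases eq_or_ne m n with rfl | hmn
    · simp [eq_comm (a := k), apply_ite (coeff m)]
    · rw [show coeff n (monomial m a) = 0 from by classical rw [coeff_monomial, if_neg hmn]]
      split_ifs <;> first | rfl | simp | (classical rw [coeff_monomial, if_neg hmn])
  | add p q hp hq => simp [map_add, hp, hq]

namespace LineCorr

variable (T : LineCorr L ι) [Nonempty ι]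

local notation "A" => MvPolynomial ι L
local notation "K" => FractionRing (MvPolynomial ι L)

lemma generic : ∃ f : ι → A, (∀ d, (∀ i, d ∣ f i) → IsUnit d) ∧
    ∀ (R : Type u) [CommRing R] [Algebra L R] [IsLocalRing R] (v : ι → R),
      Uni v → T.P R v (fun i => aeval v (f i)) := by
  classical
  let x : ι → K := fun i => algebraMap A K (X i)
  have hx : Uni x := ⟨Classical.arbitrary ι, by simp [x, X_ne_zero]⟩
  obtain ⟨w, hw⟩ := T.tot hx
  have hwne : ∃ i, w i ≠ 0 := (T.uni hw).2.imp fun i hi => hi.ne_zero
  obtain ⟨f, hcop, c, hc, hf⟩ : ∃ f : ι → A, (∀ d, (∀ i, d ∣ f i) → IsUnit d) ∧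
      ∃ c : K, c ≠ 0 ∧ ∀ i, algebraMap A K (f i) = c * w i := exists_coprime_rep w hwne
  refine ⟨f, hcop, fun R _ _ _ v hv => ?_⟩
  let ψ : A →ₐ[L] R := aeval v
  let p : Ideal A := (IsLocalRing.maximalIdeal R).comap ψ
  haveI : p.IsPrime := Ideal.IsPrime.comap ψ
  let Ap := Localization.AtPrime p
  have hmem : ∀ {a : A}, a ∈ p ↔ ¬ IsUnit (ψ a) := by simp [p]
  let toK : Ap →ₐ[L] K := IsLocalization.liftAlgHom (M := p.primeCompl)
    (f := IsScalarTower.toAlgHom L A K) fun s => by
      rw [isUnit_iff_ne_zero]
      exact (map_ne_zero_iff _ (IsFractionRing.injective A K)).mpr fun h => s.2 (h ▸ zero_mem p)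
  have toK_alg : ∀ a, toK (algebraMap A Ap a) = algebraMap A K a := fun a =>
    IsLocalization.lift_eq _ a
  let xp : ι → Ap := fun i => algebraMap A Ap (X i)
  have hxp : Uni xp := hv.imp fun i hi => IsLocalization.map_units Ap (⟨X i, by
    simpa [Ideal.primeCompl, hmem, ψ] using hi⟩ : p.primeCompl)
  obtain ⟨r, hr⟩ := T.tot hxp
  obtain ⟨i, hi⟩ := (T.uni hr).2
  have hrK := T.map toK hr
  rw [show (fun i => toK (xp i)) = x from funext fun i => toK_alg _] at hrK
  obtain ⟨e, he⟩ := T.uniq hw hrK
  have hcross : ∀ j, algebraMap A K (f j) * toK (r i) = algebraMap A K (f i) * toK (r j) := by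
    intro j
    have h1 := congrFun he i
    have h2 := congrFun he j
    simp only [Pi.smul_apply, smul_eq_mul] at h1 h2
    rw [h1, h2, hf, hf]; ring
  choose a s has using fun j => IsLocalization.exists_mk'_eq p.primeCompl (r j)
  have hai : a i ∉ p := by
    intro h
    rw [← has i] at hi
    exact ((IsLocalization.AtPrime.isUnit_mk'_iff Ap p (a i) (s i)).mp hi) h
  have hA : ∀ j, f j * a i * (s j : A) = f i * a j * (s i : A) := by
    intro j
    apply IsFractionRing.injective A K
    have hs : ∀ j, toK (r j) * algebraMap A K (s j) = algebraMap A K (a j) := fun j => by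
      rw [← toK_alg, ← toK_alg, ← map_mul toK, ← has j, IsLocalization.mk'_spec]
    simp only [map_mul]
    rw [← hs i, ← hs j]
    linear_combination (algebraMap A K (s i) * algebraMap A K (s j)) * hcross j
  let S : A := ∏ j, (s j : A)
  have hS : S ∉ p := (Submonoid.prod_mem p.primeCompl fun j _ => (s j).2 : S ∈ p.primeCompl)
  have hdvd : f i ∣ a i * S := by
    refine dvd_of_coprime_family hcop _ _ fun j => ?_
    obtain ⟨t, ht⟩ : (s j : A) ∣ S := Finset.dvd_prod_of_mem _ (Finset.mem_univ j)
    exact ⟨a j * (s i : A) * t, by rw [ht]; linear_combination t * hA j⟩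
  have hfi : f i ∉ p := by
    intro h
    obtain ⟨t, ht⟩ := hdvd
    have : a i * S ∈ p := ht ▸ p.mul_mem_right t h
    exact (Ideal.IsPrime.mem_or_mem inferInstance this).elim hai hS
  have hfu : IsUnit (algebraMap A Ap (f i)) :=
    IsLocalization.map_units Ap (⟨f i, hfi⟩ : p.primeCompl)
  have hstep : T.P Ap xp (fun j => algebraMap A Ap (f j)) := by
    have hfr : (fun j => algebraMap A Ap (f j)) = ((hfu.unit * hi.unit⁻¹ : Apˣ) : Ap) • r := by
      funext j
      have key : algebraMap A Ap (f j) * r i = algebraMap A Ap (f i) * r j := by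
        have hinj : Function.Injective toK := by
          apply IsLocalization.lift_injective_iff (M := p.primeCompl) _ |>.mpr
          intro x y
          exact ⟨fun h => congrArg _ (IsLocalization.injective Ap
            (Ideal.primeCompl_le_nonZeroDivisors p) h),
            fun h => congrArg _ (IsFractionRing.injective A K h)⟩
        apply hinj
        rw [map_mul, map_mul, toK_alg, toK_alg]
        exact hcross j
      simp only [Pi.smul_apply, smul_eq_mul, Units.val_mul, IsUnit.unit_spec]
      have : algebraMap A Ap (f j) = algebraMap A Ap (f j) * r i * ↑hi.unit⁻¹ := by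
        rw [mul_assoc, IsUnit.mul_val_inv, mul_one]
      rw [this, key]; ring
    rw [hfr]
    exact T.scal' _ hr
  let ψ' : Ap →ₐ[L] R := IsLocalization.liftAlgHom (M := p.primeCompl) (f := ψ) fun s => by
    by_contra hs
    exact s.2 (hmem.mpr hs)
  have hψ' : ∀ a, ψ' (algebraMap A Ap a) = ψ a := fun a => IsLocalization.lift_eq _ a
  have := T.map ψ' hstep
  simp only [xp, hψ', ψ, aeval_X] at this
  exact this

lemma isHomogeneous_of_generic {f : ι → A} (hcop : ∀ d, (∀ i, d ∣ f i) → IsUnit d)
    (hgen : ∀ (R : Type u) [CommRing R] [Algebra L R] [IsLocalRing R] (v : ι → R),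
      Uni v → T.P R v (fun i => aeval v (f i))) :
    ∃ d, ∀ i, (f i).IsHomogeneous d := by
  classical
  obtain ⟨j, hj⟩ : ∃ j, f j ≠ 0 := by
    by_contra h
    push Not at h
    exact not_isUnit_zero (hcop 0 fun i => by simp [h i])
  let B := Polynomial A
  let F := FractionRing B
  let v0 : ι → F := fun i => algebraMap B F (Polynomial.C (X i))
  let v1 : ι → F := fun i => algebraMap B F (Polynomial.C (X i) * Polynomial.X)
  have hv0 : Uni v0 := ⟨Classical.arbitrary ι, isUnit_iff_ne_zero.mpr (by simp [v0, B, X_ne_zero])⟩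
  have htu : IsUnit (algebraMap B F Polynomial.X) := isUnit_iff_ne_zero.mpr (by simp [B])
  have h01 : v1 = ((htu.unit : Fˣ) : F) • v0 := by
    funext i; simp only [v0, v1, B, Pi.smul_apply, smul_eq_mul, IsUnit.unit_spec, map_mul]; ring
  have h1 := hgen F v1 (h01 ▸ hv0.smul _ htu.unit)
  have h0 := T.scal htu.unit (hgen F v0 hv0)
  rw [← h01] at h0
  obtain ⟨c, hc⟩ := T.uniq h0 h1
  have e0 : ∀ i, aeval v0 (f i) = algebraMap B F (Polynomial.C (f i)) := by
    intro i
    have : aeval v0 = ((IsScalarTower.toAlgHom L B F).comp (IsScalarTower.toAlgHom L A B)) :=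
      MvPolynomial.algHom_ext fun i => by simp [v0, B, Polynomial.algebraMap_eq]
    rw [this]; rfl
  have e1 : ∀ i, aeval v1 (f i) = algebraMap B F
      (aeval (fun i => Polynomial.C (X i : A) * Polynomial.X) (f i)) := by
    intro i
    have : aeval v1 = ((IsScalarTower.toAlgHom L B F).comp
        (aeval (fun i => Polynomial.C (X i : A) * Polynomial.X))) :=
      MvPolynomial.algHom_ext fun i => by simp [v1]
    rw [this]; rfl
  set d := (f j).totalDegree
  have hcross : ∀ i, homogeneousComponent d (f i) * f j = homogeneousComponent d (f j) * f i := by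
    intro i
    have hi := congrFun hc i
    have hj' := congrFun hc j
    simp only [Pi.smul_apply, smul_eq_mul, e0, e1] at hi hj'
    have : aeval (fun i => Polynomial.C (X i : A) * Polynomial.X) (f i) * Polynomial.C (f j) =
        aeval (fun i => Polynomial.C (X i : A) * Polynomial.X) (f j) * Polynomial.C (f i) := by
      apply IsFractionRing.injective B F
      rw [map_mul, map_mul, hi, hj']; ring
    have := congrArg (fun q : Polynomial A => q.coeff d) this
    simpa [Polynomial.coeff_mul_C, coeff_aeval_scale] using this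
  obtain ⟨a, ha⟩ : f j ∣ homogeneousComponent d (f j) :=
    dvd_of_coprime_family hcop _ _ fun i => ⟨homogeneousComponent d (f i), by
      rw [← hcross i]; ring⟩
  have hgj : homogeneousComponent d (f j) ≠ 0 := by
    obtain ⟨m, hm, hmd⟩ := Finset.exists_mem_eq_sup (f j).support
      (support_nonempty.mpr hj) fun s => s.sum fun _ e => e
    intro h
    have := congrArg (coeff m) h
    rw [coeff_homogeneousComponent, coeff_zero] at this
    have hdeg : m.degree = d := hmd.symm
    rw [if_pos hdeg] at this
    exact (mem_support_iff.mp hm) this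
  have hane : a ≠ 0 := by rintro rfl; exact hgj (by rw [ha, mul_zero])
  have hadeg : a.totalDegree = 0 := by
    have h1 := totalDegree_mul_of_isDomain hj hane
    rw [← ha] at h1
    have h2 := (homogeneousComponent_isHomogeneous d (f j)).totalDegree hgj
    omega
  obtain ⟨r, hr⟩ : ∃ r : L, a = C r := ⟨_, totalDegree_eq_zero_iff_eq_C.mp hadeg⟩
  have hr0 : r ≠ 0 := by rintro rfl; exact hane (by rw [hr, map_zero])
  refine ⟨d, fun i => ?_⟩
  have : homogeneousComponent d (f i) = C r * f i :=
    mul_right_cancel₀ hj (by rw [hcross i, ha, hr]; ring)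
  have h3 : f i = C r⁻¹ * homogeneousComponent d (f i) := by
    rw [this, ← mul_assoc, ← map_mul, inv_mul_cancel₀ hr0, map_one, one_mul]
  rw [h3]
  simpa using (isHomogeneous_C ι r⁻¹).mul (homogeneousComponent_isHomogeneous d (f i))

lemma degree_one {f g : ι → A} {d e : ℕ} (hf : ∀ i, (f i).IsHomogeneous d)
    (hg : ∀ i, (g i).IsHomogeneous e) {i0 i1 : ι} (hne : i0 ≠ i1)
    (hfgen : ∀ (R : Type u) [CommRing R] [Algebra L R] [IsLocalRing R] (v : ι → R),
      Uni v → T.P R v (fun i => aeval v (f i)))
    (hggen : ∀ (R : Type u) [CommRing R] [Algebra L R] [IsLocalRing R] (v : ι → R),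
      Uni v → T.symm.P R v (fun i => aeval v (g i))) : d = 1 := by
  classical
  let x : ι → K := fun i => algebraMap A K (X i)
  have hx : Uni x := ⟨Classical.arbitrary ι, by simp [x, X_ne_zero]⟩
  have h1 := hfgen K x hx
  have h2 := hggen K _ (T.uni h1).2
  obtain ⟨c, hc⟩ := T.uniq' h1 h2
  let G : ι → A := fun i => aeval f (g i)
  have eG : ∀ i, algebraMap A K (G i) = (c : K) * x i := by
    intro i
    have := congrFun hc i
    simp only [Pi.smul_apply, smul_eq_mul] at this
    rw [← this]
    have hx' : ∀ q : A, aeval x q = algebraMap A K q := by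
      intro q
      have : aeval x = IsScalarTower.toAlgHom L A K := MvPolynomial.algHom_ext fun i => by simp [x]
      rw [this]; rfl
    rw [show (fun i => aeval x (f i)) = fun i => algebraMap A K (f i) from funext fun i => hx' _]
    simp only [G]
    have : aeval (fun i => algebraMap A K (f i)) =
        (IsScalarTower.toAlgHom L A K).comp (aeval f) :=
      MvPolynomial.algHom_ext fun i => by simp
    rw [this]; rfl
  have hcross : ∀ i j, X j * G i = X i * G j := by
    intro i j
    apply IsFractionRing.injective A K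
    rw [map_mul, map_mul, eG, eG]
    simp only [x]; ring
  obtain ⟨h, hh⟩ : (X i0 : A) ∣ G i0 := by
    refine ((MvPolynomial.X_prime (i := i0)).dvd_or_dvd (⟨G i1, hcross i0 i1⟩ : X i0 ∣ X i1 * G i0)).resolve_left ?_
    intro hd
    rw [X_dvd_X] at hd
    exact hne hd
  have hGi : ∀ i, G i = X i * h := fun i =>
    mul_left_cancel₀ (X_ne_zero i0) (by rw [hcross i i0, hh]; ring)
  let Ω := AlgebraicClosure L
  have hnz : ∀ p : ι → Ω, (∃ i, p i ≠ 0) → aeval p h ≠ 0 := by
    intro p ⟨i, hi⟩ h0
    have e1 := hfgen Ω p ⟨i, isUnit_iff_ne_zero.mpr hi⟩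
    have e2 := hggen Ω _ (T.uni e1).2
    obtain ⟨i', hi'⟩ := (T.uni e2).1
    apply hi'.ne_zero
    have : aeval (fun i => aeval p (f i)) (g i') = aeval p (G i') := by
      have : aeval (fun i => aeval p (f i)) = (aeval p).comp (aeval f) :=
        MvPolynomial.algHom_ext fun i => by simp
      rw [this]; rfl
    beta_reduce
    rw [this, hGi, map_mul, h0, mul_zero]
  have hscale : ∀ (t : Ω) (p : ι → Ω) (i : ι),
      aeval (t • p) (G i) = t ^ (d * e) * aeval p (G i) := by
    intro t p i
    have hG : (G i).IsHomogeneous (d * e) := (hg i).aeval f hf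
    rw [aeval_def, aeval_def, eval₂_eq, eval₂_eq, Finset.mul_sum]
    refine Finset.sum_congr rfl fun m hm => ?_
    have hdeg : ∑ j ∈ m.support, m j = d * e := by
      rw [← Finsupp.degree_apply, Finsupp.degree_eq_weight_one]; exact hG (mem_support_iff.mp hm)
    simp only [Pi.smul_apply, smul_eq_mul, mul_pow, Finset.prod_mul_distrib,
      Finset.prod_pow_eq_pow_sum, hdeg]
    ring
  let q : Polynomial Ω := aeval (fun i => if i = i0 then Polynomial.X else if i = i1 then 1 else 0) h
  have hq : ∀ s : Ω, q.eval s = aeval (fun i => if i = i0 then s else if i = i1 then 1 else 0) h := by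
    intro s
    rw [← Polynomial.coe_aeval_eq_eval]
    have : ((Polynomial.aeval s).restrictScalars L).comp
        (aeval fun i => if i = i0 then Polynomial.X else if i = i1 then (1 : Polynomial Ω) else 0) =
        aeval (fun i => if i = i0 then s else if i = i1 then 1 else 0) :=
      MvPolynomial.algHom_ext fun i => by simp only [AlgHom.comp_apply, aeval_X]; split_ifs <;> simp
    exact DFunLike.congr_fun this h
  have hqdeg : q.degree = 0 := by
    by_contra hd0
    obtain ⟨s, hs⟩ := IsAlgClosed.exists_root q hd0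
    rw [Polynomial.IsRoot, hq] at hs
    exact hnz _ ⟨i1, by simp [hne.symm]⟩ hs
  obtain ⟨c0, hc0⟩ : ∃ c0, q = Polynomial.C c0 := ⟨_, Polynomial.eq_C_of_degree_le_zero hqdeg.le⟩
  have hc0ne : c0 ≠ 0 := by rintro rfl; rw [hc0] at hqdeg; simp at hqdeg
  let Q : Polynomial Ω :=
    aeval (fun i => if i = i0 then 1 else if i = i1 then Polynomial.X else 0) (G i0)
  have hQ : ∀ u : Ω, Q.eval u = aeval (fun i => if i = i0 then 1 else if i = i1 then u else 0) (G i0) := by
    intro u
    rw [← Polynomial.coe_aeval_eq_eval]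
    have : ((Polynomial.aeval u).restrictScalars L).comp
        (aeval fun i => if i = i0 then (1 : Polynomial Ω) else if i = i1 then Polynomial.X else 0) =
        aeval (fun i => if i = i0 then 1 else if i = i1 then u else 0) :=
      MvPolynomial.algHom_ext fun i => by simp only [AlgHom.comp_apply, aeval_X]; split_ifs <;> simp
    exact DFunLike.congr_fun this (G i0)
  have key : Polynomial.X * Q = Polynomial.C c0 * Polynomial.X ^ (d * e) := by
    apply Polynomial.eq_of_infinite_eval_eq
    refine Set.Infinite.mono (fun u (hu : u ∈ ({0}ᶜ : Set Ω)) => ?_) ((Set.finite_singleton 0).infinite_compl)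
    have hu : u ≠ 0 := hu
    have hp : (fun i => if i = i0 then (1 : Ω) else if i = i1 then u else 0) =
        u • (fun i => if i = i0 then u⁻¹ else if i = i1 then 1 else 0) := by
      funext i; simp [apply_ite (fun t => u * t), hu]
    show Polynomial.eval u _ = Polynomial.eval u _
    simp only [Polynomial.eval_mul, Polynomial.eval_X, Polynomial.eval_C, Polynomial.eval_pow]
    rw [hQ, hp, hscale, hGi, map_mul, aeval_X, ← hq, hc0]
    simp only [if_true, Polynomial.eval_C]
    linear_combination (c0 * u ^ (d * e)) * mul_inv_cancel₀ hu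
  have hQ0 : Q.coeff 0 ≠ 0 := by
    rw [Polynomial.coeff_zero_eq_eval_zero, hQ, hGi, map_mul, aeval_X]
    simp only [if_true, one_mul]
    exact hnz _ ⟨i0, by simp⟩
  have hde : d * e = 1 := by
    have := congrArg (fun P => Polynomial.coeff P 1) key
    simp only [Polynomial.coeff_X_mul, Polynomial.coeff_C_mul_X_pow] at this
    by_contra hh
    exact hQ0 (this.trans (if_neg fun h => hh h.symm))
  exact Nat.eq_one_of_mul_eq_one_right hde

/-- Main theorem. -/
theorem linear : ∃ M : Matrix ι ι L, IsUnit M ∧
    ∀ (R : Type u) [CommRing R] [Algebra L R] [IsLocalRing R] (v : ι → R),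
      Uni v → T.P R v (Matrix.vecMul v (M.map (algebraMap L R))) := by
  classical
  by_cases hι : ∃ i0 i1 : ι, i0 ≠ i1
  · obtain ⟨i0, i1, hne⟩ := hι
    obtain ⟨f, hfc, hfgen⟩ := T.generic
    obtain ⟨g, hgc, hggen⟩ := T.symm.generic
    obtain ⟨d, hd⟩ := T.isHomogeneous_of_generic hfc hfgen
    obtain ⟨e, he⟩ := T.symm.isHomogeneous_of_generic hgc hggen
    have hd1 : d = 1 := T.degree_one hd he hne hfgen hggen
    subst hd1
    let M : Matrix ι ι L := Matrix.of fun j i => coeff (Finsupp.single j 1) (f i)
    have hM : ∀ i, f i = ∑ j, C (M j i) * X j := by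
      intro i
      ext m
      rw [coeff_sum]
      simp only [coeff_C_mul, coeff_X, M, Matrix.of_apply, mul_ite, mul_one, mul_zero]
      by_cases hm : ∃ j, Finsupp.single j 1 = m
      · obtain ⟨j, rfl⟩ := hm
        rw [Finset.sum_eq_single j]
        · simp
        · intro b _ hb
          rw [if_neg]
          exact fun h => hb ((Finsupp.single_left_inj one_ne_zero).mp h)
        · simp
      · rw [Finset.sum_eq_zero fun j _ => if_neg fun h => hm ⟨j, h⟩]
        by_contra hne0
        have hdeg : m.degree = 1 := by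
          rw [Finsupp.degree_eq_weight_one]; exact hd i hne0
        exact hm (((Finsupp.sum_eq_one_iff m).mp hdeg).imp fun j h => h.symm)
    have hMv : ∀ (R : Type u) [CommRing R] [Algebra L R] (v : ι → R) (i : ι),
        aeval v (f i) = Matrix.vecMul v (M.map (algebraMap L R)) i := by
      intro R _ _ v i
      rw [hM i, map_sum]
      simp [Matrix.vecMul, dotProduct, mul_comm]
    refine ⟨M, ?_, fun R _ _ _ v hv => ?_⟩
    · rw [← Matrix.vecMul_injective_iff_isUnit]
      intro v w hvw
      rw [← sub_eq_zero]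
      by_contra hne'
      have hu : Uni (v - w) := by
        obtain ⟨i, hi⟩ := Function.ne_iff.mp hne'
        exact ⟨i, isUnit_iff_ne_zero.mpr (by simpa using hi)⟩
      obtain ⟨i, hi⟩ := (T.uni (hfgen L (v - w) hu)).2
      apply hi.ne_zero
      beta_reduce
      rw [hMv]
      simp only [Algebra.algebraMap_self, RingHom.coe_id, Matrix.map_id, Matrix.sub_vecMul]
      simp [hvw]
    · have h := hfgen R v hv
      rwa [show (fun i => aeval v (f i)) = Matrix.vecMul v (M.map (algebraMap L R)) from
        funext (hMv R v)] at h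
  · push Not at hι
    refine ⟨1, isUnit_one, fun R _ _ _ v hv => ?_⟩
    rw [Matrix.map_one _ (map_zero _) (map_one _), Matrix.vecMul_one]
    obtain ⟨w, hw⟩ := T.tot hv
    obtain ⟨i, hi⟩ := hv
    obtain ⟨i', hi'⟩ := (T.uni hw).2
    have h := T.scal' (hi.unit * hi'.unit⁻¹) hw
    convert h using 1
    funext j
    obtain rfl := hι j i
    obtain rfl := hι i' j
    simp [mul_assoc]

end LineCorr
end Groth.Agent.SBAut
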