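import Groth.Agent.SBAut.Grass
import Groth.Agent.SBAut.ProjLinear

/-! Points of the Severi–Brauer functor of a split algebra over local rings. -/

set_option autoImplicit false
set_option backward.isDefEq.respectTransparency.types false
set_option maxHeartbeats 2000000
universe u

namespace Groth.Agent.SBAut
open scoped TensorProduct
open BrSev Matrix

/-- complement of a submodule with projective quotient over a local ring -/
lemma split_of_projective_quotient {R : Type*} [CommRing R] [IsLocalRing R] {M : Type*}
    [AddCommGroup M] [Module R M] [Module.Finite R M] [Module.Free R M] (P : Submodule R M)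
    [Module.Projective R (M ⧸ P)] :
    Module.Free R P ∧ Module.Finite R P ∧
      Module.finrank R P + Module.finrank R (M ⧸ P) = Module.finrank R M ∧
      ∃ π : M →ₗ[R] P, ∀ x : P, π x = x := by
  obtain ⟨s, hs⟩ := P.mkQ.exists_rightInverse_of_surjective
    (LinearMap.range_eq_top.mpr P.mkQ_surjective)
  have hs' : ∀ q, P.mkQ (s q) = q := fun q => DFunLike.congr_fun hs q
  let π : M →ₗ[R] P := LinearMap.codRestrict P (LinearMap.id - s ∘ₗ P.mkQ) fun x => by
    rw [← Submodule.Quotient.mk_eq_zero, ← Submodule.mkQ_apply]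
    simp only [LinearMap.sub_apply, LinearMap.id_apply, LinearMap.comp_apply, map_sub]
    rw [hs', sub_self]
  have hπ : ∀ x : P, π x = x := fun x => Subtype.ext (by
    simp [π, (Submodule.Quotient.mk_eq_zero P).mpr x.2])
  have hfin : Module.Finite R P := Module.Finite.of_surjective π fun x => ⟨x, hπ x⟩
  have hproj : Module.Projective R P := Module.Projective.of_split P.subtype π (LinearMap.ext hπ)
  have hfree : Module.Free R P := Module.free_of_flat_of_isLocalRing
  have : Module.Free R (M ⧸ P) := Module.free_of_flat_of_isLocalRing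
  refine ⟨hfree, hfin, ?_, π, hπ⟩
  let e : M ≃ₗ[R] P × (M ⧸ P) := LinearEquiv.ofLinearMap (π.prod P.mkQ) (P.subtype.coprod s)
    (LinearMap.ext fun z => by
      refine Prod.ext (Subtype.ext ?_) ?_
      · have := congrArg s (hs' z.2)
        simp only [Submodule.mkQ_apply] at this
        simp [π, (Submodule.Quotient.mk_eq_zero P).mpr z.1.2, this]
      · simpa [(Submodule.Quotient.mk_eq_zero P).mpr z.1.2] using hs' z.2)
    (LinearMap.ext fun z => by simp [π])
  rw [← Module.finrank_prod, e.finrank_eq]

variable {k : Type u} [Field k] {A : Type u} [Ring A] [Algebra k A]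
  {L : Type u} [Field L] [Algebra k L] {n : ℕ} (e : L ⊗[k] A ≃ₐ[L] Matrix (Fin n) (Fin n) L)
  {R : Type u} [CommRing R] [Algebra k R] [Algebra L R] [IsScalarTower k L R]

/-- the splitting over an `L`-algebra, as a homomorphism -/
noncomputable def splitHom : R ⊗[k] A →ₐ[R] Matrix (Fin n) (Fin n) R :=
  Algebra.TensorProduct.lift (Algebra.ofId R _)
    ((IsScalarTower.toAlgHom k L R).mapMatrix.comp
      ((e.restrictScalars k).toAlgHom.comp Algebra.TensorProduct.includeRight))
    fun r x => Algebra.commutes r _

lemma splitHom_tmul (r : R) (a : A) :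
    splitHom e (r ⊗ₜ[k] a) = r • (e ((1 : L) ⊗ₜ[k] a)).map (algebraMap L R) := by
  simp [splitHom, Algebra.smul_def]

lemma splitHom_bijective : Function.Bijective (splitHom (R := R) e) := by
  let E1 := (TensorProduct.AlgebraTensorModule.cancelBaseChange k L R R A).symm
  let E2 := TensorProduct.congr (LinearEquiv.refl L R) e.toLinearEquiv
  let E3 := (matrixEquivTensor (Fin n) L R).symm
  have : ∀ z, splitHom (R := R) e z = E3 (E2 (E1 z)) := by
    intro z
    induction z using TensorProduct.induction_on with
    | zero => simp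
    | tmul r a =>
      rw [splitHom_tmul]
      simp [E1, E2, E3]
    | add x y hx hy => simp only [map_add, hx, hy]
  rw [show ⇑(splitHom (R := R) e) = E3 ∘ E2 ∘ E1 from funext this]
  exact E3.bijective.comp (E2.bijective.comp E1.bijective)

/-- the splitting over an `L`-algebra -/
noncomputable def splitMap : R ⊗[k] A ≃ₐ[R] Matrix (Fin n) (Fin n) R :=
  AlgEquiv.ofBijective (splitHom e) (splitHom_bijective e)

lemma splitMap_tmul (r : R) (a : A) :
    splitMap e (r ⊗ₜ[k] a) = r • (e ((1 : L) ⊗ₜ[k] a)).map (algebraMap L R) :=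
  splitHom_tmul e r a

lemma splitMap_natural {S : Type u} [CommRing S] [Algebra k S] [Algebra L S] [IsScalarTower k L S]
    (φ : R →ₐ[L] S) (z : R ⊗[k] A) :
    splitMap e (phiM (φ.restrictScalars k) z) = (splitMap e z).map φ := by
  induction z using TensorProduct.induction_on with
  | zero => simp
  | tmul r a =>
    rw [phiM_tmul, splitMap_tmul, splitMap_tmul]
    ext i j
    simp
  | add x y hx hy => simp only [map_add, hx, hy]; ext i j; simp

/-- matrices with all rows in the line of `v` -/
noncomputable def rowMap (v : Fin n → R) : (Fin n → R) →ₗ[R] R ⊗[k] A :=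
  (splitMap e).symm.toLinearMap ∘ₗ
    { toFun := fun c => vecMulVec c v
      map_add' := fun c c' => by ext i j; simp [vecMulVec, add_mul]
      map_smul' := fun r c => by ext i j; simp [vecMulVec, mul_assoc] }

lemma splitMap_rowMap (v c : Fin n → R) : splitMap e (rowMap e v c) = vecMulVec c v := by
  simp [rowMap]

lemma rowMap_mem_iff (v : Fin n → R) (z : R ⊗[k] A) :
    z ∈ LinearMap.range (rowMap e v) ↔ ∃ c, splitMap e z = vecMulVec c v := by
  constructor
  · rintro ⟨c, rfl⟩; exact ⟨c, splitMap_rowMap e v c⟩
  · rintro ⟨c, hc⟩; exact ⟨c, (splitMap e).injective (by rw [splitMap_rowMap, hc])⟩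

variable [IsLocalRing R]

include e in
lemma finrank_base : Module.finrank R (R ⊗[k] A) = n * n ∧ Module.Free R (R ⊗[k] A) ∧
    Module.Finite R (R ⊗[k] A) := by
  let E := (splitMap (R := R) e).toLinearEquiv
  refine ⟨?_, Module.Free.of_equiv E.symm, Module.Finite.equiv E.symm⟩
  rw [E.finrank_eq, Module.finrank_matrix]
  simp

/-- the point of the Severi–Brauer functor given by a unimodular vector -/
noncomputable def rowIdeal (v : Fin n → R) (hv : Uni v) : SBSet k A (n * n - n) R :=
  ⟨{  toSubmodule := LinearMap.range (rowMap e v)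
      finite_quotient := by
        have := (finrank_base (R := R) e).2.2
        infer_instance
      projective_quotient := by
        obtain ⟨i, hi⟩ := hv
        have := (finrank_base (R := R) e).2.1
        let P : R ⊗[k] A →ₗ[R] (Fin n → R) :=
          { toFun := fun z j => splitMap e z j i * ↑hi.unit⁻¹
            map_add' := fun z z' => by ext j; simp [add_mul]
            map_smul' := fun r z => by ext j; simp [mul_assoc] }
        have hP : ∀ c, P (rowMap e v c) = c := fun c => by
          ext j; simp [P, splitMap_rowMap, vecMulVec, mul_assoc]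
        refine Module.Projective.of_split
          ((LinearMap.range (rowMap e v)).liftQ (LinearMap.id - rowMap e v ∘ₗ P) ?_)
          (Submodule.mkQ _) ?_
        · rintro _ ⟨c, rfl⟩; simp [hP]
        · refine Submodule.linearMap_qext _ (LinearMap.ext fun z => ?_)
          simp
      rankAtStalk_eq := fun p => by
        obtain ⟨i, hi⟩ := hv
        obtain ⟨hrk, hfree, hfin⟩ := finrank_base (R := R) e
        have : Module.Projective R ((R ⊗[k] A) ⧸ LinearMap.range (rowMap e v)) := by
          let P : R ⊗[k] A →ₗ[R] (Fin n → R) :=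
            { toFun := fun z j => splitMap e z j i * ↑hi.unit⁻¹
              map_add' := fun z z' => by ext j; simp [add_mul]
              map_smul' := fun r z => by ext j; simp [mul_assoc] }
          have hP : ∀ c, P (rowMap e v c) = c := fun c => by
            ext j; simp [P, splitMap_rowMap, vecMulVec, mul_assoc]
          refine Module.Projective.of_split
            ((LinearMap.range (rowMap e v)).liftQ (LinearMap.id - rowMap e v ∘ₗ P) ?_)
            (Submodule.mkQ _) ?_
          · rintro _ ⟨c, rfl⟩; simp [hP]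
          · refine Submodule.linearMap_qext _ (LinearMap.ext fun z => ?_)
            simp
        obtain ⟨hf', hfin', hsum, -⟩ := split_of_projective_quotient (LinearMap.range (rowMap e v))
        have : Module.Free R ((R ⊗[k] A) ⧸ LinearMap.range (rowMap e v)) :=
          Module.free_of_flat_of_isLocalRing
        rw [Module.rankAtStalk_eq_finrank_of_free]
        have hinj : Function.Injective (rowMap e v) := fun c c' h => by
          have := congrArg (splitMap e) h
          rw [splitMap_rowMap, splitMap_rowMap] at this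
          funext j
          have := congrFun (congrFun this j) i
          simp only [vecMulVec_apply] at this
          exact hi.mul_left_injective this
        rw [← (LinearEquiv.ofInjective _ hinj).finrank_eq, Module.finrank_fin_fun, hrk] at hsum
        have hq : Module.finrank R ((R ⊗[k] A) ⧸ LinearMap.range (rowMap e v)) = n * n - n := by omega
        simp [hq] },
    fun a x hx => by
      rw [rowMap_mem_iff] at hx ⊢
      obtain ⟨c, hc⟩ := hx
      exact ⟨splitMap e a *ᵥ c, by rw [map_mul, hc, mul_vecMulVec]⟩⟩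

lemma mem_rowIdeal (v : Fin n → R) (hv : Uni v) (z : R ⊗[k] A) :
    z ∈ (rowIdeal e v hv).1.toSubmodule ↔ ∃ c, splitMap e z = vecMulVec c v :=
  rowMap_mem_iff e v z

lemma rowIdeal_smul (v : Fin n → R) (hv : Uni v) (c : Rˣ) :
    rowIdeal e ((c : R) • v) (hv.smul _ c) = rowIdeal e v hv := by
  refine sbExt (Submodule.ext fun z => ?_)
  rw [mem_rowIdeal, mem_rowIdeal]
  constructor
  · rintro ⟨d, hd⟩
    exact ⟨(c : R) • d, by rw [hd]; ext i j; simp [vecMulVec]; ring⟩
  · rintro ⟨d, hd⟩
    exact ⟨((c⁻¹ : Rˣ) : R) • d, by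
      rw [hd]; ext i j
      simp only [vecMulVec_apply, Pi.smul_apply, smul_eq_mul]
      linear_combination (-(d i * v j)) * c.inv_mul⟩

lemma eq_smul_of_rowIdeal_eq {v w : Fin n → R} {hv : Uni v} {hw : Uni w}
    (h : rowIdeal e v hv = rowIdeal e w hw) : ∃ c : Rˣ, w = (c : R) • v := by
  obtain ⟨i, hi⟩ := hw
  have hmem : rowMap e w (Pi.single i 1) ∈ (rowIdeal e v hv).1.toSubmodule :=
    h.symm ▸ LinearMap.mem_range_self (rowMap e w) _
  rw [mem_rowIdeal, splitMap_rowMap] at hmem
  obtain ⟨c, hc⟩ := hmem
  have hw' : ∀ j, w j = c i * v j := fun j => by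
    simpa [vecMulVec] using congrFun (congrFun hc i) j
  have hu : IsUnit (c i) := isUnit_of_mul_isUnit_left (hw' i ▸ hi)
  exact ⟨hu.unit, funext fun j => by simp [hw' j]⟩

lemma exists_rowIdeal (hn : 0 < n) (N : SBSet k A (n * n - n) R) :
    ∃ (v : Fin n → R) (hv : Uni v), N = rowIdeal e v hv := by
  let i0 : Fin n := ⟨0, hn⟩
  let sm := (splitMap (R := R) e)
  let row : R ⊗[k] A →ₗ[R] (Fin n → R) :=
    { toFun := fun z => sm z i0
      map_add' := fun z z' => by ext j; simp
      map_smul' := fun r z => by ext j; simp }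
  let P := N.1.toSubmodule.map row
  have hrows : ∀ z, z ∈ N.1.toSubmodule ↔ ∀ i, sm z i ∈ P := by
    intro z
    constructor
    · intro hz i
      refine ⟨sm.symm (Matrix.single i0 i 1) * z, N.2 _ _ hz, ?_⟩
      ext j
      simp [row]
    · intro h
      choose y hy hyz using h
      have : z = ∑ i, sm.symm (Matrix.single i i0 1) * y i := by
        apply sm.injective
        ext a b
        rw [map_sum, Matrix.sum_apply, Finset.sum_eq_single a]
        · have := congrFun (hyz a) b
          simp only [row, LinearMap.coe_mk, AddHom.coe_mk] at this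
          simp [this]
        · intro i _ hia
          simp [Matrix.single_mul_apply_of_ne, Ne.symm hia]
        · simp
      rw [this]
      exact Submodule.sum_mem _ fun i _ => N.2 _ _ (hy i)
  have := N.1.projective_quotient
  let j : ((Fin n → R) ⧸ P) →ₗ[R] ((R ⊗[k] A) ⧸ N.1.toSubmodule) :=
    P.liftQ (N.1.toSubmodule.mkQ ∘ₗ sm.symm.toLinearMap ∘ₗ
      { toFun := fun v => vecMulVec (Pi.single i0 1) v
        map_add' := fun v v' => by ext a b; simp [vecMulVec, mul_add]
        map_smul' := fun r v => by ext a b; simp [vecMulVec]; ring }) (by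
      intro v hv
      rw [LinearMap.mem_ker]
      simp only [LinearMap.comp_apply, Submodule.mkQ_apply, Submodule.Quotient.mk_eq_zero,
        LinearMap.coe_mk, AddHom.coe_mk]
      rw [hrows]
      intro i
      by_cases h : i = i0
      · subst h
        convert hv using 1
        ext b; simp [vecMulVec]
      · convert P.zero_mem using 1
        ext b; simp [vecMulVec, h])
  let r : ((R ⊗[k] A) ⧸ N.1.toSubmodule) →ₗ[R] ((Fin n → R) ⧸ P) :=
    N.1.toSubmodule.liftQ (P.mkQ ∘ₗ row) fun z hz => by
      simp only [LinearMap.mem_ker, LinearMap.comp_apply, Submodule.mkQ_apply,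
        Submodule.Quotient.mk_eq_zero]
      exact Submodule.mem_map_of_mem hz
  have hrj : r ∘ₗ j = LinearMap.id := by
    refine Submodule.linearMap_qext _ (LinearMap.ext fun v => ?_)
    simp only [LinearMap.comp_apply, Submodule.mkQ_apply, LinearMap.id_apply, j, r,
      Submodule.liftQ_apply]
    congr 1
    ext b
    simp [row, vecMulVec]
  have : Module.Projective R ((Fin n → R) ⧸ P) := Module.Projective.of_split j r hrj
  obtain ⟨hPfree, hPfin, -, π, hπ⟩ := split_of_projective_quotient P
  obtain ⟨hrk, hfree, hfin⟩ := finrank_base (R := R) e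
  obtain ⟨hNfree, hNfin, hsum, -⟩ := split_of_projective_quotient N.1.toSubmodule
  have hQfree : Module.Free R ((R ⊗[k] A) ⧸ N.1.toSubmodule) := Module.free_of_flat_of_isLocalRing
  have hQ : Module.finrank R ((R ⊗[k] A) ⧸ N.1.toSubmodule) = n * n - n := by
    have := N.1.rankAtStalk_eq ⟨_, (IsLocalRing.maximalIdeal.isMaximal R).isPrime⟩
    rwa [Module.rankAtStalk_eq_finrank_of_free] at this
  let E : N.1.toSubmodule ≃ₗ[R] (Fin n → P) :=
    LinearEquiv.ofBijective
      { toFun := fun z i => ⟨sm z i, (hrows z).mp z.2 i⟩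
        map_add' := fun z z' => by ext i b; simp
        map_smul' := fun c z => by ext i b; simp }
      ⟨fun z z' h => Subtype.ext (sm.injective (Matrix.ext fun a b =>
          congrFun (congrArg Subtype.val (congrFun h a)) b)),
        fun g => ⟨⟨sm.symm (Matrix.of fun i => (g i : Fin n → R)), (hrows _).mpr fun i => by
          convert (g i).2 using 1
          ext b; simp⟩, by ext i b; simp⟩⟩
  rw [E.finrank_eq, Module.finrank_pi_fintype, hQ, hrk] at hsum
  simp only [Finset.sum_const, Finset.card_fin, smul_eq_mul] at hsum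
  have hle : n ≤ n * n := Nat.le_mul_self n
  have hP1 : Module.finrank R P = 1 :=
    Nat.eq_of_mul_eq_mul_left hn (by omega : n * Module.finrank R P = n * 1)
  let b := (Module.finBasisOfFinrankEq R P hP1)
  let v : Fin n → R := (b 0 : Fin n → R)
  have hv : Uni v := by
    by_contra hv
    have hv' : ∀ i, v i ∈ IsLocalRing.maximalIdeal R := fun i =>
      (IsLocalRing.mem_maximalIdeal _).mpr fun h => hv ⟨i, h⟩
    let g : (Fin n → R) →ₗ[R] R := b.coord 0 ∘ₗ π
    have h1 : g v = 1 := by
      show b.coord 0 (π (b 0 : Fin n → R)) = 1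
      rw [hπ]; simp
    have h2 : g v ∈ IsLocalRing.maximalIdeal R := by
      rw [← (Pi.basisFun R (Fin n)).sum_repr v, map_sum]
      exact Submodule.sum_mem _ fun i _ => by
        rw [map_smul, smul_eq_mul]
        exact Ideal.mul_mem_right _ _ (by simpa using hv' i)
    rw [h1] at h2
    exact (IsLocalRing.maximalIdeal.isMaximal R).ne_top ((Ideal.eq_top_iff_one _).mpr h2)
  have hP : ∀ x, x ∈ P ↔ ∃ c : R, x = c • v := by
    intro x
    constructor
    · intro hx
      refine ⟨b.repr ⟨x, hx⟩ 0, ?_⟩
      have := congrArg Subtype.val (b.sum_repr ⟨x, hx⟩)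
      simpa [v] using this.symm
    · rintro ⟨c, rfl⟩; exact P.smul_mem c (b 0).2
  refine ⟨v, hv, sbExt (Submodule.ext fun z => ?_)⟩
  rw [hrows, mem_rowIdeal]
  constructor
  · intro h
    choose c hc using fun i => (hP _).mp (h i)
    exact ⟨c, Matrix.ext fun i j => by simpa [vecMulVec] using congrFun (hc i) j⟩
  · rintro ⟨c, hc⟩ i
    exact (hP _).mpr ⟨c i, by funext j; rw [hc]; simp [vecMulVec]⟩

lemma twist_rowIdeal (u : (R ⊗[k] A)ˣ) (v : Fin n → R) (hv : Uni v)
    (hv' : Uni (v ᵥ* splitMap e ((u⁻¹ : (R ⊗[k] A)ˣ) : R ⊗[k] A))) :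
    twist u (rowIdeal e v hv) =
      rowIdeal e (v ᵥ* splitMap e ((u⁻¹ : (R ⊗[k] A)ˣ) : R ⊗[k] A)) hv' := by
  refine sbExt (Submodule.ext fun z => ?_)
  rw [mem_twist, mem_rowIdeal, mem_rowIdeal]
  refine exists_congr fun c => ?_
  rw [← vecMulVec_mul]
  constructor
  · intro h
    rw [← h, ← map_mul, mul_assoc, Units.mul_inv, mul_one]
  · intro h
    rw [map_mul, h, mul_assoc, ← map_mul, Units.inv_mul, map_one, mul_one]

lemma sbMap_rowIdeal {S : Type u} [CommRing S] [Algebra k S] [Algebra L S] [IsScalarTower k L S]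
    [IsLocalRing S] (φ : R →ₐ[L] S) (v : Fin n → R) (hv : Uni v) :
    sbMap (φ.restrictScalars k) (rowIdeal e v hv) = rowIdeal e (fun i => φ (v i)) (hv.imp fun _ hi => hi.map φ) := by
  apply sbExt
  rw [sbMap_toSubmodule]
  apply le_antisymm
  · rw [Submodule.span_le]
    rintro _ ⟨z, hz, rfl⟩
    rw [SetLike.mem_coe, mem_rowIdeal] at hz ⊢
    obtain ⟨c, hc⟩ := hz
    refine ⟨fun i => φ (c i), ?_⟩
    rw [splitMap_natural, hc]
    ext i j; simp [vecMulVec]
  · rintro _ ⟨c, rfl⟩
    rw [← (Pi.basisFun S (Fin n)).sum_repr c, map_sum]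
    refine Submodule.sum_mem _ fun i _ => ?_
    rw [map_smul]
    refine Submodule.smul_mem _ _ (Submodule.subset_span
      ⟨rowMap e v (Pi.single i 1), LinearMap.mem_range_self _ _, ?_⟩)
    apply (splitMap e).injective
    rw [splitMap_natural, splitMap_rowMap, splitMap_rowMap]
    ext a b
    simp [vecMulVec, Pi.single_apply, apply_ite φ]

end Groth.Agent.SBAut
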