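import Groth.Agent.SBAut.Aut
import Groth.Agent.SBAut.RowIdeal
import Groth.Agent.GrpSch.RigidityBase
import Groth.Agent.CSACentralizer.Splitting

/-! `Aut` of a Severi–Brauer variety is `Aˣ / kˣ`. -/

set_option autoImplicit false
set_option backward.isDefEq.respectTransparency.types false
set_option maxHeartbeats 2000000
universe u

namespace Groth.Agent.SBAut
open scoped TensorProduct
open CategoryTheory CategoryTheory.Limits AlgebraicGeometry BrSev Matrix

variable {k : Type u} [Field k] {A : Type u} [Ring A] [Algebra k A]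
  {L : Type u} [Field L] [Algebra k L] {n : ℕ}

lemma mat_scalar_of_eigen {B : Matrix (Fin n) (Fin n) L} (hn : 0 < n)
    (h : ∀ v : Fin n → L, v ≠ 0 → ∃ c : L, v ᵥ* B = c • v) :
    ∃ b : L, B = b • (1 : Matrix (Fin n) (Fin n) L) := by
  choose! c hc using h
  let i0 : Fin n := ⟨0, hn⟩
  have hrow : ∀ i j, B i j = if i = j then c (Pi.single i 1) else 0 := by
    intro i j
    have := congrFun (hc (Pi.single i 1) (by simp)) j
    simpa [Pi.single_apply, eq_comm] using this
  refine ⟨B i0 i0, Matrix.ext fun i j => ?_⟩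
  rcases eq_or_ne i j with rfl | hij
  · rcases eq_or_ne i i0 with rfl | hi
    · simp
    · have hne : (Pi.single i 1 + Pi.single i0 1 : Fin n → L) ≠ 0 := fun h0 => by
        simpa [Pi.single_apply, hi, Ne.symm hi] using congrFun h0 i
      have h1 := congrFun (hc _ hne) i
      have h2 := congrFun (hc _ hne) i0
      simp [Matrix.add_vecMul, hrow, Pi.single_apply, hi, Ne.symm hi] at h1 h2
      simp [hrow, h1, h2]
  · simp [hrow, hij]

section
variable (e : L ⊗[k] A ≃ₐ[L] Matrix (Fin n) (Fin n) L)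
include e

lemma scalar_of_twist (hn : 0 < n) (u : (L ⊗[k] A)ˣ)
    (h : ∀ N : SBSet k A (n * n - n) L, twist u N = N) :
    ∃ r : Lˣ, (u : L ⊗[k] A) = (r : L) ⊗ₜ[k] (1 : A) := by
  let sm := splitMap (R := L) e
  let B := sm ((u⁻¹ : (L ⊗[k] A)ˣ) : L ⊗[k] A)
  have hBu : IsUnit B := (Units.isUnit _).map sm
  have key : ∀ v : Fin n → L, v ≠ 0 → ∃ c : L, v ᵥ* B = c • v := by
    intro v hv
    have hu : Uni v := (Function.ne_iff.mp hv).imp fun i hi => isUnit_iff_ne_zero.mpr hi
    have hu' : Uni (v ᵥ* B) := by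
      have hne : v ᵥ* B ≠ 0 := fun h0 =>
        hv (Matrix.vecMul_injective_of_isUnit hBu (h0.trans (Matrix.zero_vecMul B).symm))
      exact (Function.ne_iff.mp hne).imp fun i hi => isUnit_iff_ne_zero.mpr hi
    obtain ⟨c, hc⟩ := eq_smul_of_rowIdeal_eq e ((h _).symm.trans (twist_rowIdeal e u v hu hu'))
    exact ⟨c, hc⟩
  obtain ⟨b, hb⟩ := mat_scalar_of_eigen hn key
  have hb0 : b ≠ 0 := by
    rintro rfl
    have : Nonempty (Fin n) := ⟨⟨0, hn⟩⟩
    rw [hb, zero_smul] at hBu
    exact not_isUnit_zero hBu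
  refine ⟨(Units.mk0 b hb0)⁻¹, sm.injective ?_⟩
  have h1 : sm u * B = 1 := by rw [← map_mul, Units.mul_inv, map_one]
  rw [hb, mul_smul_comm, mul_one] at h1
  rw [show ((((Units.mk0 b hb0)⁻¹ : Lˣ) : L) ⊗ₜ[k] (1 : A)) = algebraMap L (L ⊗[k] A) b⁻¹ by
    simp [Algebra.TensorProduct.algebraMap_apply], AlgEquiv.commutes, Algebra.algebraMap_eq_smul_one,
    ← h1, smul_smul, inv_mul_cancel₀ hb0, one_smul]

omit e in
/-- the composite algebra structure -/
noncomputable abbrev algOf (k L R : Type u) [Field k] [Field L] [Algebra k L] [CommRing R] [Algebra L R] :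
    Algebra k R := ((algebraMap L R).comp (algebraMap k L)).toAlgebra

omit e in
lemma eq_algOf {R : Type u} [CommRing R] [Algebra L R] [inst : Algebra k R] [IsScalarTower k L R] :
    inst = algOf k L R :=
  Algebra.algebra_ext _ _ fun x => IsScalarTower.algebraMap_apply k L R x

variable {X : Scheme.{u}} {f : X ⟶ Spec (CommRingCat.of k)} (σ : SBStr k A (n * n - n) f)
  (α : Aut (Over.mk f))

/-- the relation between lines induced by `α` -/
def Corr (R : Type u) [CommRing R] [Algebra L R] [IsLocalRing R] (v w : Fin n → R) : Prop :=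
  ∃ (hv : Uni v) (hw : Uni w), ∀ [Algebra k R] [IsScalarTower k L R],
    act σ α R (rowIdeal e v hv) = rowIdeal e w hw

lemma corr_mk {R : Type u} [CommRing R] [Algebra L R] [IsLocalRing R] [i : Algebra k R]
    [IsScalarTower k L R] {v w : Fin n → R} (hv : Uni v) (hw : Uni w)
    (h : act σ α R (rowIdeal e v hv) = rowIdeal e w hw) : Corr e σ α R v w := by
  refine ⟨hv, hw, ?_⟩
  intro i' _
  obtain rfl : i' = i := (eq_algOf (L := L) (inst := i')).trans (eq_algOf (L := L) (inst := i)).symm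
  exact h

omit e in
lemma act_injective (R : Type u) [CommRing R] [Algebra k R] :
    Function.Injective (act σ α R) := fun N N' h => by
  have := congrArg (act σ α⁻¹ R) h
  rwa [← act_mul, ← act_mul, inv_mul_cancel, act_one, act_one] at this

/-- the line correspondence induced by `α` -/
noncomputable def lineCorr (hn : 0 < n) : LineCorr L (Fin n) where
  P R _ _ _ v w := Corr e σ α R v w
  uni := fun ⟨hv, hw, _⟩ => ⟨hv, hw⟩
  tot {R _ _ _ v} hv := by
    letI := algOf k L R
    haveI : IsScalarTower k L R := IsScalarTower.of_algebraMap_eq' rfl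
    obtain ⟨w, hw, h⟩ := exists_rowIdeal e hn (act σ α R (rowIdeal e v hv))
    exact ⟨w, corr_mk e σ α hv hw h⟩
  tot' {R _ _ _ w} hw := by
    letI := algOf k L R
    haveI : IsScalarTower k L R := IsScalarTower.of_algebraMap_eq' rfl
    obtain ⟨v, hv, h⟩ := exists_rowIdeal e hn (act σ α⁻¹ R (rowIdeal e w hw))
    exact ⟨v, corr_mk e σ α hv hw (by rw [← h, ← act_mul, mul_inv_cancel, act_one])⟩
  uniq {R _ _ _ v w w'} := fun ⟨hv, hw, h⟩ ⟨_, hw', h'⟩ => by
    letI := algOf k L R
    haveI : IsScalarTower k L R := IsScalarTower.of_algebraMap_eq' rfl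
    exact eq_smul_of_rowIdeal_eq e (hv := hw) (hw := hw') (h.symm.trans h')
  uniq' {R _ _ _ v v' w} := fun ⟨hv, hw, h⟩ ⟨hv', _, h'⟩ => by
    letI := algOf k L R
    haveI : IsScalarTower k L R := IsScalarTower.of_algebraMap_eq' rfl
    exact eq_smul_of_rowIdeal_eq e (hv := hv) (hw := hv') (act_injective σ α R (h.trans h'.symm))
  scal {R _ _ _ v w} c := fun ⟨hv, hw, h⟩ => by
    refine ⟨hv.smul _ c, hw, ?_⟩
    intro _ _
    rw [rowIdeal_smul e v hv c]; exact h
  scal' {R _ _ _ v w} c := fun ⟨hv, hw, h⟩ => by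
    refine ⟨hv, hw.smul _ c, ?_⟩
    intro _ _
    rw [rowIdeal_smul e w hw c]; exact h
  map {R S _ _ _ _ _ _} φ {v w} := fun ⟨hv, hw, h⟩ => by
    letI := algOf k L R
    haveI : IsScalarTower k L R := IsScalarTower.of_algebraMap_eq' rfl
    letI := algOf k L S
    haveI : IsScalarTower k L S := IsScalarTower.of_algebraMap_eq' rfl
    refine corr_mk e σ α (hv.imp fun _ hi => hi.map φ) (hw.imp fun _ hi => hi.map φ) ?_
    rw [← sbMap_rowIdeal e φ v hv, act_natural, h, sbMap_rowIdeal e φ w hw]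

lemma exists_twist (hn : 0 < n) : ∃ m : (L ⊗[k] A)ˣ,
    ∀ (R : Type u) [CommRing R] [Algebra k R] [Algebra L R] [IsScalarTower k L R] [IsLocalRing R]
      (N : SBSet k A (n * n - n) R),
      act σ α R N = twist (Units.map (phiM (IsScalarTower.toAlgHom k L R)).toMonoidHom m) N := by
  have : Nonempty (Fin n) := ⟨⟨0, hn⟩⟩
  obtain ⟨M, hM, hgen⟩ := (lineCorr e σ α hn).linear
  refine ⟨(hM.map (splitMap (R := L) e).symm).unit⁻¹, fun R _ _ _ _ _ N => ?_⟩
  obtain ⟨v, hv, rfl⟩ := exists_rowIdeal e hn N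
  obtain ⟨hv', hw, h⟩ := hgen R v hv
  refine h.trans ?_
  have hφ : IsScalarTower.toAlgHom k L R = (Algebra.ofId L R).restrictScalars k := rfl
  have hB : splitMap e ((((Units.map (phiM (IsScalarTower.toAlgHom k L R)).toMonoidHom
      (hM.map (splitMap (R := L) e).symm).unit⁻¹)⁻¹ : (R ⊗[k] A)ˣ)) : R ⊗[k] A) =
      M.map (algebraMap L R) := by
    rw [← map_inv, inv_inv, Units.coe_map]
    show splitMap e (phiM (IsScalarTower.toAlgHom k L R) ((splitMap (R := L) e).symm M)) = _
    rw [hφ, splitMap_natural, AlgEquiv.apply_symm_apply]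
    rfl
  rw [twist_rowIdeal e _ v hv (by rw [hB]; exact hw)]
  congr 1
  exact hB.symm ▸ rfl

omit e in
lemma aut_ext_local {β : Aut (Over.mk f)}
    (h : ∀ (R : Type u) [CommRing R] [Algebra k R] [Algebra L R] [IsScalarTower k L R] [IsLocalRing R]
      (N : SBSet k A (n * n - n) R), act σ α R N = act σ β R N) : α = β := by
  refine Iso.ext (Over.OverMorphism.ext ?_)
  let q : Spec (CommRingCat.of L) ⟶ Spec (CommRingCat.of k) :=
    Spec.map (CommRingCat.ofHom (algebraMap k L))
  haveI : Flat q := by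
    rw [HasRingHomProperty.Spec_iff (P := @Flat)]
    exact RingHom.flat_algebraMap_iff.mpr inferInstance
  haveI : Surjective q := ⟨fun y => ⟨Classical.arbitrary _, Subsingleton.elim _ _⟩⟩
  haveI := Flat.epi_of_flat_of_surjective (pullback.fst f q)
  rw [← cancel_epi (pullback.fst f q)]
  refine GrpSch.RigidityBase.eq_of_fromSpecStalk _ _ fun y => ?_
  let R : Type u := (pullback f q).presheaf.stalk y
  let ψ := Spec.preimage ((pullback f q).fromSpecStalk y ≫ pullback.snd f q)
  letI : Algebra L R := ψ.hom.toAlgebra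
  letI : Algebra k R := algOf k L R
  haveI : IsScalarTower k L R := IsScalarTower.of_algebraMap_eq' rfl
  let g : Pts f R := ⟨(pullback f q).fromSpecStalk y ≫ pullback.fst f q, by
    rw [Category.assoc, pullback.condition, ← Category.assoc, ← Spec.map_preimage
      ((pullback f q).fromSpecStalk y ≫ pullback.snd f q), ← Spec.map_comp]
    rfl⟩
  have := h R (σ.bij R g)
  rw [← (σ.bij R).symm.injective.eq_iff, act_bij, act_bij] at this
  have := congrArg Subtype.val this
  simpa [g, ptsAct] using this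

end

lemma scalar_comm (r : L) (z : L ⊗[k] A) : (r ⊗ₜ[k] (1 : A)) * z = z * (r ⊗ₜ[k] (1 : A)) := by
  induction z using TensorProduct.induction_on with
  | zero => simp
  | tmul s a => simp [mul_comm]
  | add x y hx hy => rw [mul_add, add_mul, hx, hy]

section Galois

lemma sbMap_symm_apply {c : ℕ} (τ : L ≃ₐ[k] L) (N : SBSet k A c L) :
    sbMap (τ : L →ₐ[k] L) (sbMap (τ.symm : L →ₐ[k] L) N) = N := by
  refine sbExt ?_
  rw [sbMap_toSubmodule, sbMap_toSubmodule]
  have hc : ∀ z : L ⊗[k] A, phiM (τ : L →ₐ[k] L) (phiM (τ.symm : L →ₐ[k] L) z) = z := fun z => by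
    induction z using TensorProduct.induction_on with
    | zero => simp
    | tmul r a => simp
    | add x y hx hy => simp only [map_add, hx, hy]
  refine le_antisymm (Submodule.span_le.mpr ?_) fun z hz => ?_
  · rintro _ ⟨w, hw, rfl⟩
    induction hw using Submodule.span_induction with
    | mem y hy => obtain ⟨z, hz, rfl⟩ := hy; rw [hc]; exact hz
    | zero => simp
    | add a b _ _ ha hb => rw [map_add]; exact Submodule.add_mem _ ha hb
    | smul r a _ ha => rw [phiM_smul]; exact Submodule.smul_mem _ _ ha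
  · exact Submodule.subset_span ⟨_, Submodule.subset_span ⟨z, hz, rfl⟩, hc z⟩

lemma mem_of_fixed [IsGalois k L] (z : L ⊗[k] A)
    (hz : ∀ τ : L ≃ₐ[k] L, phiM (τ : L →ₐ[k] L) z = z) : ∃ a : A, (1 : L) ⊗ₜ[k] a = z := by
  let b := Module.Free.chooseBasis k A
  let B := Algebra.TensorProduct.basis L b
  have hrepr : ∀ (τ : L ≃ₐ[k] L) (w : L ⊗[k] A) i,
      B.repr (phiM (τ : L →ₐ[k] L) w) i = τ (B.repr w i) := by
    intro τ w i
    induction w using TensorProduct.induction_on with
    | zero => simp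
    | tmul r a => simp [B]
    | add x y hx hy => simp only [map_add, Finsupp.add_apply, hx, hy]
  have hk : ∀ i, ∃ c : k, algebraMap k L c = B.repr z i := fun i => by
    have : B.repr z i ∈ (⊥ : IntermediateField k L) := by
      rw [InfiniteGalois.mem_bot_iff_fixed]
      intro τ
      rw [← hrepr, hz]
    exact IntermediateField.mem_bot.mp this
  choose c hc using hk
  refine ⟨Finsupp.sum (B.repr z) fun i _ => c i • b i, ?_⟩
  conv_rhs => rw [← B.linearCombination_repr z]
  rw [Finsupp.linearCombination_apply, Finsupp.sum, Finsupp.sum, TensorProduct.tmul_sum]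
  refine Finset.sum_congr rfl fun i _ => ?_
  rw [← hc i, TensorProduct.tmul_smul, algebraMap_smul]
  simp [B]

end Galois

variable [Algebra.IsCentral k A] [IsSimpleRing A]

lemma exists_split (hn : 0 < n) (hA : Module.finrank k A = n * n) :
    Nonempty (SeparableClosure k ⊗[k] A ≃ₐ[SeparableClosure k]
      Matrix (Fin n) (Fin n) (SeparableClosure k)) := by
  haveI : FiniteDimensional k A :=
    Module.finite_of_finrank_pos (by rw [hA]; exact Nat.mul_pos hn hn)
  obtain ⟨N, hN, ⟨e⟩⟩ := Groth.Agent.CSACentralizer.splits_separableClosure k A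
  have h := e.toLinearEquiv.finrank_eq
  rw [Module.finrank_baseChange, hA, Module.finrank_matrix] at h
  simp only [Fintype.card_fin, Module.finrank_self, mul_one] at h
  obtain rfl : N = n := (Nat.mul_self_inj.mp h.symm)
  exact ⟨e⟩

variable {X : Scheme.{u}} {f : X ⟶ Spec (CommRingCat.of k)} (σ : SBStr k A (n * n - n) f)

/-- an element acts trivially only if it is scalar -/
theorem ker_xi (hn : 0 < n) (hA : Module.finrank k A = n * n) :
    (xi σ).ker = (Units.map (algebraMap k A : k →* A)).range := by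
  obtain ⟨e⟩ := exists_split hn hA
  refine le_antisymm (fun a ha => ?_) ?_
  · rw [MonoidHom.mem_ker] at ha
    obtain ⟨r, hr⟩ := scalar_of_twist e hn (oneTmul (SeparableClosure k) a) fun N => by
      rw [← act_xi σ, ha, act_one]
    have hc : (a : A) ∈ Subalgebra.center k A := by
      rw [Subalgebra.mem_center_iff]
      intro b
      apply Algebra.TensorProduct.includeRight_injective (R := k) (A := SeparableClosure k) (B := A)
        (algebraMap k (SeparableClosure k)).injective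
      have hr' : ((1 : SeparableClosure k) ⊗ₜ[k] (a : A)) = (r : SeparableClosure k) ⊗ₜ[k] 1 := hr
      simp only [map_mul, Algebra.TensorProduct.includeRight_apply, hr']
      simp
    rw [Algebra.IsCentral.center_eq_bot, Algebra.mem_bot] at hc
    obtain ⟨x, hx⟩ := hc
    have : x ≠ 0 := by
      rintro rfl
      exact a.ne_zero (by rw [← hx, map_zero])
    exact ⟨Units.mk0 x this, Units.ext hx⟩
  · rintro _ ⟨x, rfl⟩
    exact xi_algebraMap σ x

/-- every automorphism comes from a unit -/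
theorem xi_surjective (hn : 0 < n) (hA : Module.finrank k A = n * n) :
    Function.Surjective (xi σ) := by
  intro α
  haveI : FiniteDimensional k A :=
    Module.finite_of_finrank_pos (by rw [hA]; exact Nat.mul_pos hn hn)
  obtain ⟨e⟩ := exists_split hn hA
  let K := SeparableClosure k
  obtain ⟨m, hm⟩ := exists_twist e σ α hn
  have hmK : ∀ N, act σ α K N = twist m N := fun N => by
    rw [hm K N]
    congr 1
    refine Units.ext ?_
    show phiM (IsScalarTower.toAlgHom k K K) (m : K ⊗[k] A) = m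
    have : IsScalarTower.toAlgHom k K K = AlgHom.id k K := AlgHom.ext fun x => rfl
    rw [this, phiM, Algebra.TensorProduct.map_id]; rfl
  have hfix : ∀ τ : K ≃ₐ[k] K, ∃ r : Kˣ,
      phiM (τ : K →ₐ[k] K) (m : K ⊗[k] A) = ((r : K) ⊗ₜ[k] (1 : A)) * m := by
    intro τ
    let τm := Units.map (phiM (A := A) (τ : K →ₐ[k] K)).toMonoidHom m
    obtain ⟨r, hr⟩ := scalar_of_twist e hn (τm * m⁻¹) fun N => by
      obtain ⟨N', rfl⟩ : ∃ N', twist m N' = N := ⟨twist m⁻¹ N, by rw [← twist_mul, mul_inv_cancel, twist_one]⟩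
      rw [← twist_mul, inv_mul_cancel_right]
      obtain ⟨N'', rfl⟩ : ∃ N'', sbMap (τ : K →ₐ[k] K) N'' = N' := ⟨_, sbMap_symm_apply τ N'⟩
      rw [← sbMap_twist, ← hmK, ← hmK, act_natural]
    refine ⟨r, ?_⟩
    rw [← hr, Units.val_mul, mul_assoc, Units.inv_mul, mul_one]
    rfl
  have hθ : ∀ b : A, ∃ b' : A,
      (1 : K) ⊗ₜ[k] b' = (m : K ⊗[k] A) * ((1 : K) ⊗ₜ[k] b) * ((m⁻¹ : (K ⊗[k] A)ˣ) : K ⊗[k] A) := by
    intro b
    refine mem_of_fixed _ fun τ => ?_
    obtain ⟨r, hr⟩ := hfix τ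
    let w := ((1 : K) ⊗ₜ[k] b)
    let τm := Units.map (phiM (A := A) (τ : K →ₐ[k] K)).toMonoidHom m
    have hcomm : ∀ z : K ⊗[k] A, ((r : K) ⊗ₜ[k] (1 : A)) * z = z * ((r : K) ⊗ₜ[k] (1 : A)) :=
      scalar_comm (r : K)
    rw [map_mul, map_mul, phiM_tmul, map_one]
    have hinv : phiM (τ : K →ₐ[k] K) ((m⁻¹ : (K ⊗[k] A)ˣ) : K ⊗[k] A) = ((τm⁻¹ : (K ⊗[k] A)ˣ) : K ⊗[k] A) := by
      rw [← map_inv]; rfl
    rw [hinv, Units.mul_inv_eq_iff_eq_mul]
    show phiM (τ : K →ₐ[k] K) (m : K ⊗[k] A) * w = _ * phiM (τ : K →ₐ[k] K) (m : K ⊗[k] A)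
    rw [hr, mul_assoc, hcomm, mul_assoc ((m : K ⊗[k] A)) w, hcomm]
    simp [w, mul_assoc]
  choose θ0 hθ0 using hθ
  have hinj : Function.Injective (fun b : A => (1 : K) ⊗ₜ[k] b) :=
    Algebra.TensorProduct.includeRight_injective (algebraMap k K).injective
  let θ : A →ₐ[k] A :=
    { toFun := θ0
      map_one' := hinj (by simp [hθ0, ← Algebra.TensorProduct.one_def])
      map_mul' := fun x y => hinj (by
        have : ∀ x y : A, (1 : K) ⊗ₜ[k] (x * y) = ((1 : K) ⊗ₜ[k] x) * ((1 : K) ⊗ₜ[k] y) := fun x y => by simp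
        beta_reduce
        rw [hθ0, this, this, hθ0, hθ0]
        simp only [mul_assoc, Units.inv_mul_cancel_left])
      map_zero' := hinj (by simp [hθ0])
      map_add' := fun x y => hinj (by simp [hθ0, TensorProduct.tmul_add, mul_add, add_mul])
      commutes' := fun x => hinj (by
        simp only [hθ0]
        rw [show ((1 : K) ⊗ₜ[k] algebraMap k A x) = algebraMap k (K ⊗[k] A) x by
          rw [Algebra.algebraMap_eq_smul_one, Algebra.algebraMap_eq_smul_one, TensorProduct.tmul_smul, Algebra.TensorProduct.one_def],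
          ← Algebra.commutes, mul_assoc, Units.mul_inv, mul_one]) }
  have hbij : Function.Bijective θ :=
    have hi : Function.Injective θ := RingHom.injective θ.toRingHom
    ⟨hi, (LinearMap.injective_iff_surjective (f := θ.toLinearMap)).mp hi⟩
  obtain ⟨a, ha⟩ := Groth.Agent.CSA.exists_unit_conj_algEquiv k A (AlgEquiv.ofBijective θ hbij)
  let w : (K ⊗[k] A)ˣ := (oneTmul K a)⁻¹ * m
  have hw : ∀ z : K ⊗[k] A, z * (w : K ⊗[k] A) = (w : K ⊗[k] A) * z := by
    intro z
    induction z using TensorProduct.induction_on with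
    | zero => simp
    | tmul r b =>
      have hb : ((1 : K) ⊗ₜ[k] b) * (w : K ⊗[k] A) = (w : K ⊗[k] A) * ((1 : K) ⊗ₜ[k] b) := by
        have h1 := hθ0 b
        have h2 : θ0 b = (a : A) * b * ((a⁻¹ : Aˣ) : A) := ha b
        rw [h2] at h1
        have h3 : ((oneTmul K a : (K ⊗[k] A)ˣ) : K ⊗[k] A) * ((1 : K) ⊗ₜ[k] b) * ((oneTmul K a)⁻¹ : (K ⊗[k] A)ˣ) =
            (m : K ⊗[k] A) * ((1 : K) ⊗ₜ[k] b) * ((m⁻¹ : (K ⊗[k] A)ˣ) : K ⊗[k] A) := by
          rw [← h1, ← map_inv]
          simp [oneTmul]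
        rw [Units.eq_mul_inv_iff_mul_eq, mul_assoc, mul_assoc] at h3
        simp only [w, Units.val_mul]
        calc _ = ((oneTmul K a)⁻¹ : (K ⊗[k] A)ˣ) * (((oneTmul K a : (K ⊗[k] A)ˣ) : K ⊗[k] A) *
              (((1 : K) ⊗ₜ[k] b) * (((oneTmul K a)⁻¹ : (K ⊗[k] A)ˣ) * (m : K ⊗[k] A)))) := by
              rw [← mul_assoc ((((oneTmul K a)⁻¹ : (K ⊗[k] A)ˣ)) : K ⊗[k] A) ((oneTmul K a : (K ⊗[k] A)ˣ) : K ⊗[k] A),
                Units.inv_mul, one_mul]
          _ = _ := by rw [h3]; simp [mul_assoc]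
      have : (r ⊗ₜ[k] b) = r • ((1 : K) ⊗ₜ[k] b) := by
        rw [TensorProduct.smul_tmul', smul_eq_mul, mul_one]
      rw [this, smul_mul_assoc, mul_smul_comm, hb]
    | add x y hx hy => rw [add_mul, mul_add, hx, hy]
  have hmem : e (w : K ⊗[k] A) ∈ Subalgebra.center K (Matrix (Fin n) (Fin n) K) :=
    Subalgebra.mem_center_iff.mpr fun B => by
      obtain ⟨z, rfl⟩ := e.surjective B
      rw [← map_mul, ← map_mul, hw]
  haveI : Nonempty (Fin n) := ⟨⟨0, hn⟩⟩
  rw [Algebra.IsCentral.center_eq_bot, Algebra.mem_bot] at hmem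
  obtain ⟨r, hr⟩ := hmem
  have hwr : (w : K ⊗[k] A) = r ⊗ₜ[k] (1 : A) := e.injective (by
    rw [← hr, ← e.commutes, Algebra.TensorProduct.algebraMap_apply]; simp)
  have hr0 : r ≠ 0 := by
    rintro rfl
    rw [TensorProduct.zero_tmul] at hwr
    haveI : Nontrivial (K ⊗[k] A) := e.toEquiv.nontrivial
    exact w.isUnit.ne_zero (hwr.trans rfl)
  refine ⟨a, (aut_ext_local (L := K) σ α fun R _ _ _ _ _ N => ?_).symm⟩
  rw [hm R N, act_xi]
  have hm' : m = oneTmul K a * w := by simp [w]
  rw [hm', map_mul, twist_mul, phiM_oneTmul]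
  congr 1
  refine twist_scalar _ (Units.map (algebraMap K R : K →* R) (Units.mk0 r hr0)) ?_ N
  show phiM (IsScalarTower.toAlgHom k K R) (w : K ⊗[k] A) = _
  rw [hwr]; rfl

end Groth.Agent.SBAut
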