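import Groth.Agent.SBAut.Main
import Groth.Agent.CSACentralizer.DivisionRing
import Mathlib.GroupTheory.Transfer

/-! Elements of finite order of `Dˣ / kˣ` when `k` contains all roots of unity. -/

set_option autoImplicit false
set_option backward.isDefEq.respectTransparency.types false
set_option maxHeartbeats 2000000
universe u

namespace Groth.Agent.SBAut
open Polynomial

variable {k : Type u} [Field k] (hk : ∀ m : ℕ, 0 < m → (X ^ m - 1 : k[X]).Splits)
  {D : Type u} [DivisionRing D] [Algebra k D]

include hk in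
lemma root_of_unity_mem {y : D} {r : ℕ} (hr : 0 < r) (hy : y ^ r = 1) :
    ∃ z : k, algebraMap k D z = y := by
  have hprod := (hk r hr).eq_prod_roots_of_monic (by simpa using monic_X_pow_sub_C (1 : k) hr.ne')
  have h0 : aeval y (X ^ r - 1 : k[X]) = 0 := by simp [hy]
  rw [hprod] at h0
  generalize (X ^ r - 1 : k[X]).roots = s at h0
  induction s using Multiset.induction_on with
  | empty => simp at h0
  | cons a s ih =>
    simp only [Multiset.map_cons, Multiset.prod_cons, map_mul, mul_eq_zero] at h0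
    rcases h0 with h0 | h0
    · exact ⟨a, (sub_eq_zero.mp (show y - algebraMap k D a = 0 by simpa using h0)).symm⟩
    · exact ih h0

include hk in
/-- Kummer theory in a division algebra -/
lemma minpoly_natDegree_eq [FiniteDimensional k D] {a : D} (ha : a ≠ 0) {m : ℕ} (hm : 0 < m)
    (hc : a ^ m ∈ (algebraMap k D).range)
    (hmin : ∀ j, a ^ j ∈ (algebraMap k D).range → m ∣ j) : (minpoly k a).natDegree = m := by
  obtain ⟨c, hc⟩ := hc
  have hint : IsIntegral k a := IsIntegral.of_finite k a
  set q := minpoly k a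
  have hqm : q.Monic := minpoly.monic hint
  have hdvd : q ∣ X ^ m - C c := minpoly.dvd k a (by simp [hc])
  have hle : q.natDegree ≤ m := by
    have := natDegree_le_of_dvd hdvd (monic_X_pow_sub_C c hm.ne').ne_zero
    rwa [natDegree_X_pow_sub_C] at this
  have hirr : Irreducible q := minpoly.irreducible hint
  let Ω := AlgebraicClosure k
  let qΩ := q.map (algebraMap k Ω)
  have hqΩ : qΩ.Splits := IsAlgClosed.splits qΩ
  have hcard := splits_iff_card_roots.mp hqΩ
  have hdeg : qΩ.natDegree = q.natDegree := natDegree_map _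
  obtain ⟨α, hα⟩ := Multiset.card_pos_iff_exists_mem.mp (hcard.trans hdeg ▸ hirr.natDegree_pos)
  have hc0 : c ≠ 0 := by
    rintro rfl
    exact pow_ne_zero m ha (by simpa using hc.symm)
  have hroot : ∀ β ∈ qΩ.roots, β ^ m = algebraMap k Ω c := by
    intro β hβ
    have h1 : aeval β q = 0 := (mem_aroots.mp hβ).2
    obtain ⟨t, ht⟩ := hdvd
    have : aeval β (X ^ m - C c) = 0 := by rw [ht, map_mul, h1, zero_mul]
    simpa [sub_eq_zero] using this
  have hα0 : α ≠ 0 := fun h => hc0 <| (algebraMap k Ω).injective <| by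
    rw [← hroot α hα, h, zero_pow hm.ne', map_zero]
  have hkΩ : ∀ β ∈ qΩ.roots, ∃ z : k, β = algebraMap k Ω z * α := by
    intro β hβ
    obtain ⟨z, hz⟩ := root_of_unity_mem hk (D := Ω) hm
      (show (β / α) ^ m = 1 by
        rw [div_pow, hroot β hβ, hroot α hα, div_self]
        exact (_root_.map_ne_zero _).mpr hc0)
    exact ⟨z, by rw [hz, div_mul_cancel₀ _ hα0]⟩
  have hprod : ∀ s : Multiset Ω, (∀ β ∈ s, ∃ z : k, β = algebraMap k Ω z * α) →
      ∃ z : k, s.prod = algebraMap k Ω z * α ^ Multiset.card s := by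
    intro s
    induction s using Multiset.induction_on with
    | empty => exact fun _ => ⟨1, by simp⟩
    | cons b s ih =>
      intro h
      obtain ⟨z, hz⟩ := ih fun β hβ => h β (Multiset.mem_cons_of_mem hβ)
      obtain ⟨w, hw⟩ := h b (Multiset.mem_cons_self b s)
      refine ⟨w * z, ?_⟩
      rw [Multiset.prod_cons, Multiset.card_cons, hz, hw, map_mul, pow_succ]
      ring
  obtain ⟨z, hz⟩ := hprod _ hkΩ
  have hcoeff := hqΩ.coeff_zero_eq_prod_roots_of_monic (hqm.map _)
  rw [hdeg, hz, hcard, hdeg, coeff_map] at hcoeff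
  have hq0 : q.coeff 0 ≠ 0 := minpoly.coeff_zero_ne_zero hint ha
  have hz0 : z ≠ 0 := by
    rintro rfl
    rw [map_zero, zero_mul, mul_zero, map_eq_zero] at hcoeff
    exact hq0 hcoeff
  let d : k := (-1) ^ q.natDegree * q.coeff 0 / z
  have hαe : aeval α (X ^ q.natDegree - C d) = 0 := by
    simp only [map_sub, aeval_X_pow, aeval_C, d, map_div₀, map_mul, map_pow, map_neg, map_one,
      hcoeff]
    have : (algebraMap k Ω z) ≠ 0 := (_root_.map_ne_zero _).mpr hz0
    rw [aeval_X, ← mul_assoc, ← mul_pow, neg_one_mul, neg_neg, one_pow, one_mul,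
      mul_div_cancel_left₀ _ this, sub_self]
  have hmp : q = minpoly k α := minpoly.eq_of_irreducible_of_monic hirr (mem_aroots.mp hα).2 hqm
  have hae : a ^ q.natDegree = algebraMap k D d := by
    obtain ⟨t, ht⟩ := minpoly.dvd k α hαe
    rw [← hmp] at ht
    have := congrArg (aeval a) ht
    rw [map_mul, minpoly.aeval, zero_mul] at this
    simpa [sub_eq_zero] using this
  exact le_antisymm hle (Nat.le_of_dvd hirr.natDegree_pos (hmin _ ⟨d, hae.symm⟩))

/-- the degree of an element divides `n` -/
lemma minpoly_natDegree_dvd [Algebra.IsCentral k D] {n : ℕ} (hn : 0 < n)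
    (hA : Module.finrank k D = n * n) (a : D) : (minpoly k a).natDegree ∣ n := by
  haveI : FiniteDimensional k D :=
    Module.finite_of_finrank_pos (by rw [hA]; exact Nat.mul_pos hn hn)
  let B := Algebra.adjoin k ({a} : Set D)
  have := CSACentralizer.isSimpleRing_subalgebra k D B
  have h := CSACentralizer.finrank_mul_finrank_centralizer k D B
  let C := Subalgebra.centralizer k (B : Set D)
  have hint : IsIntegral k a := IsIntegral.of_finite k a
  let q := minpoly k a
  have haC : a ∈ C := fun b hb => by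
    induction hb using Algebra.adjoin_induction with
    | mem x hx => rw [Set.mem_singleton_iff.mp hx]
    | algebraMap r => exact Algebra.commutes r a
    | add x y _ _ hx hy => rw [add_mul, mul_add, hx, hy]
    | mul x y _ _ hx hy => rw [mul_assoc, hy, ← mul_assoc, hx, mul_assoc]
  let F := AdjoinRoot q
  haveI : Fact (Irreducible q) := ⟨minpoly.irreducible hint⟩
  let aC : C := ⟨a, haC⟩
  let ψ : F →ₐ[k] C := Ideal.Quotient.liftₐ _ (aeval aC) fun p hp => by
    obtain ⟨r, rfl⟩ := Ideal.mem_span_singleton.mp hp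
    refine Subtype.ext ?_
    rw [map_mul]
    have h0 : (C.val (aeval aC q) : D) = 0 := by
      rw [← aeval_algHom_apply]; exact minpoly.aeval k a
    simp only [MulMemClass.coe_mul, ZeroMemClass.coe_zero]
    rw [show ((aeval aC q : C) : D) = 0 from h0, zero_mul]
  letI : Module F C := Module.compHom C ψ.toRingHom
  haveI : IsScalarTower k F C := ⟨fun r x y => by
    show ψ (r • x) * y = r • (ψ x * y)
    rw [map_smul, smul_mul_assoc]⟩
  have hF : Module.finrank k F = q.natDegree := by
    rw [(AdjoinRoot.powerBasis (Fact.out : Irreducible q).ne_zero).finrank]; rfl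
  have hB : Module.finrank k B = q.natDegree := by
    rw [← hF]
    have hr : (aeval (R := k) a).range = B := (Algebra.adjoin_singleton_eq_range_aeval k a).symm
    have hk : RingHom.ker (aeval (R := k) a) = Ideal.span {q} :=
      minpoly.ker_aeval_eq_span_minpoly k a
    exact (((Ideal.quotientEquivAlgOfEq k hk.symm).trans
      ((Ideal.quotientKerEquivRange (aeval (R := k) a)).trans
        (Subalgebra.equivOfEq _ _ hr))).toLinearEquiv.finrank_eq).symm
  have hmul := Module.finrank_mul_finrank k F C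
  rw [hF] at hmul
  rw [hB, ← hmul, hA, ← mul_assoc] at h
  have h2 : q.natDegree ^ 2 ∣ n ^ 2 := ⟨Module.finrank F C, by rw [sq, sq, h]⟩
  exact (Nat.pow_dvd_pow_iff two_ne_zero).mp h2

section Group
variable {H : Type*} [Group H] (ξ : Dˣ →* H) (hξ : Function.Surjective ξ)
  (hker : ξ.ker = (Units.map (algebraMap k D : k →* D)).range)

include hker in
lemma xi_eq_one_iff (a : Dˣ) : ξ a = 1 ↔ (a : D) ∈ (algebraMap k D).range := by
  rw [← MonoidHom.mem_ker, hker]
  constructor
  · rintro ⟨x, rfl⟩; exact ⟨x, rfl⟩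
  · rintro ⟨x, hx⟩
    have : x ≠ 0 := by rintro rfl; exact a.ne_zero (by rw [← hx, map_zero])
    exact ⟨Units.mk0 x this, Units.ext hx⟩

include hk hξ hker in
lemma pow_eq_one_of_isOfFinOrder [Algebra.IsCentral k D] {n : ℕ} (hn : 0 < n)
    (hA : Module.finrank k D = n * n) (g : H) (hg : IsOfFinOrder g) : g ^ n = 1 := by
  haveI : FiniteDimensional k D :=
    Module.finite_of_finrank_pos (by rw [hA]; exact Nat.mul_pos hn hn)
  obtain ⟨a, rfl⟩ := hξ g
  rw [← orderOf_dvd_iff_pow_eq_one]
  refine (minpoly_natDegree_eq hk a.ne_zero hg.orderOf_pos ?_ fun j hj => ?_) ▸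
    minpoly_natDegree_dvd hn hA (a : D)
  · rw [← Units.val_pow_eq_pow_val, ← xi_eq_one_iff ξ hker, map_pow, pow_orderOf_eq_one]
  · apply orderOf_dvd_of_pow_eq_one
    rw [← map_pow, xi_eq_one_iff ξ hker, Units.val_pow_eq_pow_val]
    exact hj

include hk hξ hker in
lemma comm_of_finite (G : Subgroup H) [Finite G] {x y : H} (hx : x ∈ G) (hy : y ∈ G) :
    x * y = y * x := by
  let G' := G.comap ξ
  haveI : (Subgroup.center G').FiniteIndex := by
    let r : G' →* G := (ξ.comp G'.subtype).codRestrict G fun g => g.2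
    have hle : r.ker ≤ Subgroup.center G' := by
      intro g hg
      have : ξ (g : Dˣ) = 1 := congrArg Subtype.val (MonoidHom.mem_ker.mp hg)
      obtain ⟨c, hc⟩ := (xi_eq_one_iff ξ hker _).mp this
      rw [Subgroup.mem_center_iff]
      intro g'
      refine Subtype.ext (Units.ext ?_)
      simp only [Subgroup.coe_mul, Units.val_mul, ← hc]
      exact (Algebra.commutes _ _).symm
    haveI : r.ker.FiniteIndex := by
      refine ⟨?_⟩
      rw [Subgroup.index_ker]
      exact Nat.card_pos.ne'
    exact Subgroup.finiteIndex_of_le hle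
  obtain ⟨a, rfl⟩ := hξ x
  obtain ⟨b, rfl⟩ := hξ y
  let a' : G' := ⟨a, hx⟩
  let b' : G' := ⟨b, hy⟩
  have hN : (a' * b' * a'⁻¹ * b'⁻¹) ^ (Subgroup.center G').index = 1 := by
    rw [← MonoidHom.transferCenterPow_apply]
    simp only [map_mul, map_inv]
    rw [mul_comm' (MonoidHom.transferCenterPow G' a')]
    simp
  have hN2 : ((a * b * a⁻¹ * b⁻¹ : Dˣ) : D) ^ (Subgroup.center G').index = 1 := by
    rw [← Units.val_pow_eq_pow_val]
    exact congrArg (fun g : G' => ((g : Dˣ) : D)) hN
  have : ξ (a * b * a⁻¹ * b⁻¹) = 1 := (xi_eq_one_iff ξ hker _).mpr <| by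
    obtain ⟨z, hz⟩ := root_of_unity_mem hk
      (Nat.pos_of_ne_zero Subgroup.FiniteIndex.index_ne_zero) hN2
    exact ⟨z, hz⟩
  simp only [map_mul, map_inv] at this
  rwa [mul_inv_eq_one, mul_inv_eq_iff_eq_mul] at this

end Group
end Groth.Agent.SBAut
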