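import Groth.Agent.SBAut.FiniteOrder

/-! Central simple algebras of degree 2 or 3 in characteristic 2 resp. 3 contain a purely
inseparable element. -/

set_option autoImplicit false
set_option backward.isDefEq.respectTransparency.types false
set_option maxHeartbeats 2000000
universe u

namespace Groth.Agent.SBAut
open Polynomial
open scoped TensorProduct

variable {k : Type u} [Field k]

section division
variable (p : ℕ) [Fact p.Prime] [CharP k p] {D : Type u} [DivisionRing D] [Algebra k D]
  [Algebra.IsCentral k D] (hA : Module.finrank k D = p * p)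

omit [CharP k p] in
include hA in
lemma minpoly_natDegree_eq_p {x : D} (hx : x ∉ (algebraMap k D).range) :
    (minpoly k x).natDegree = p := by
  haveI : FiniteDimensional k D :=
    Module.finite_of_finrank_pos (by rw [hA]; exact Nat.mul_pos (Fact.out : p.Prime).pos (Fact.out : p.Prime).pos)
  refine ((Nat.dvd_prime (Fact.out : p.Prime)).mp
    (minpoly_natDegree_dvd (Fact.out : p.Prime).pos hA x)).resolve_left fun h => hx ?_
  exact minpoly.natDegree_eq_one_iff.mp h

include hA in
/-- a reduced trace -/
lemma exists_trd : ∃ τ : D →ₗ[k] k,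
    ∀ x : D, x ∉ (algebraMap k D).range → τ x = -(minpoly k x).coeff (p - 1) := by
  have hp := (Fact.out : p.Prime)
  haveI : FiniteDimensional k D :=
    Module.finite_of_finrank_pos (by rw [hA]; exact Nat.mul_pos hp.pos hp.pos)
  obtain ⟨e⟩ := exists_split (A := D) hp.pos hA
  let K := SeparableClosure k
  let φ : D →ₐ[k] Matrix (Fin p) (Fin p) K :=
    (e.restrictScalars k).toAlgHom.comp Algebra.TensorProduct.includeRight
  let T : D →ₗ[k] K := ((Matrix.traceLinearMap (Fin p) K K).restrictScalars k).comp φ.toLinearMap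
  have : Nonempty (Fin p) := ⟨⟨0, hp.pos⟩⟩
  have hout : ∀ x : D, x ∉ (algebraMap k D).range →
      T x = algebraMap k K (-(minpoly k x).coeff (p - 1)) := by
    intro x hx
    have hint : IsIntegral k x := IsIntegral.of_finite k x
    have hdeg := minpoly_natDegree_eq_p p hA hx
    have hintM : IsIntegral K (φ x) := IsIntegral.of_finite K _
    let g := minpoly K (φ x)
    have hge : p ≤ g.natDegree := by
      by_contra hlt
      push Not at hlt
      have hg0 : g ≠ 0 := minpoly.ne_zero hintM
      have hli : LinearIndependent K fun i : Fin p => φ (x ^ (i : ℕ)) := by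
        have h1 : LinearIndependent k fun i : Fin p => x ^ (i : ℕ) := by
          have := linearIndependent_pow (K := k) x
          rw [hdeg] at this
          exact this
        let b := (Module.Basis.extend h1.linearIndepOn_id)
        have h2 : LinearIndependent K fun i : Fin p => ((1 : K) ⊗ₜ[k] (x ^ (i : ℕ)) : K ⊗[k] D) := by
          have h3 := (Algebra.TensorProduct.basis K b).linearIndependent.comp
            (fun i : Fin p => (⟨x ^ (i : ℕ), h1.linearIndepOn_id.subset_extend _ ⟨i, rfl⟩⟩ :
              h1.linearIndepOn_id.extend (Set.subset_univ _)))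
            (fun i j hij => h1.injective (congrArg Subtype.val hij))
          convert h3 using 1
          funext i
          simp [b]
        exact h2.map' e.toLinearEquiv.toLinearMap e.toLinearEquiv.ker
      have h0 : ∑ i : Fin p, g.coeff i • φ (x ^ (i : ℕ)) = 0 := by
        simp only [map_pow]
        rw [Fin.sum_univ_eq_sum_range (fun i => g.coeff i • φ x ^ i), ← aeval_eq_sum_range' hlt]
        exact minpoly.aeval K _
      have := Fintype.linearIndependent_iff.mp hli _ h0 ⟨g.natDegree, hlt⟩
      exact leadingCoeff_ne_zero.mpr hg0 this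
    have hmap : ((minpoly k x).map (algebraMap k K)).aeval (φ x) = 0 := by
      rw [aeval_map_algebraMap, aeval_algHom_apply, minpoly.aeval, map_zero]
    have e1 : g = (minpoly k x).map (algebraMap k K) :=
      (eq_of_monic_of_dvd_of_natDegree_le (minpoly.monic hintM) ((minpoly.monic hint).map _)
        (minpoly.dvd K _ hmap) (by rw [natDegree_map, hdeg]; exact hge)).symm
    have e2 : g = (φ x).charpoly :=
      (eq_of_monic_of_dvd_of_natDegree_le (minpoly.monic hintM) (Matrix.charpoly_monic _)
        (Matrix.minpoly_dvd_charpoly _)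
        (by rw [Matrix.charpoly_natDegree_eq_dim, Fintype.card_fin]; exact hge)).symm
    show (φ x).trace = _
    rw [Matrix.trace_eq_neg_charpoly_coeff, ← e2, e1, coeff_map, Fintype.card_fin, map_neg]
  have hrange : ∀ x, T x ∈ LinearMap.range (Algebra.linearMap k K) := by
    intro x
    by_cases hx : x ∈ (algebraMap k D).range
    · obtain ⟨c, rfl⟩ := hx
      refine ⟨(p : k) * c, ?_⟩
      show algebraMap k K _ = (φ (algebraMap k D c)).trace
      rw [AlgHom.commutes, Matrix.algebraMap_eq_diagonal, Matrix.trace_diagonal]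
      simp
    · exact ⟨_, (hout x hx).symm⟩
  let E := LinearEquiv.ofInjective (Algebra.linearMap k K) (algebraMap k K).injective
  refine ⟨E.symm.toLinearMap.comp (T.codRestrict _ hrange), fun x hx => ?_⟩
  apply (algebraMap k K).injective
  rw [← hout x hx]
  exact congrArg Subtype.val (E.apply_symm_apply _)

include hA in
lemma exists_pow_mem_division (hp : p = 2 ∨ p = 3) :
    ∃ x : D, x ∉ (algebraMap k D).range ∧ x ^ p ∈ (algebraMap k D).range := by
  haveI : FiniteDimensional k D :=
    Module.finite_of_finrank_pos (by rw [hA]; exact Nat.mul_pos (Fact.out : p.Prime).pos (Fact.out : p.Prime).pos)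
  obtain ⟨τ, hτ⟩ := exists_trd p hA
  rcases hp with rfl | rfl
  · obtain ⟨x, hxk, hx⟩ : ∃ x, x ∈ LinearMap.ker τ ∧ x ∉ (algebraMap k D).range := by
      by_contra h
      push Not at h
      have hle : LinearMap.ker τ ≤ LinearMap.range (Algebra.linearMap k D) := fun x hx => h x hx
      have h1 := (Submodule.finrank_mono hle).trans (LinearMap.finrank_range_le _)
      have h2 := τ.finrank_range_add_finrank_ker
      have h3 := Submodule.finrank_le (LinearMap.range τ)
      rw [Module.finrank_self] at h1 h3
      omega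
    refine ⟨x, hx, -(minpoly k x).coeff 0, ?_⟩
    have hd := minpoly_natDegree_eq_p 2 hA hx
    have h0 : aeval x (minpoly k x) = 0 := minpoly.aeval k x
    rw [aeval_eq_sum_range, hd] at h0
    have hc2 : (minpoly k x).coeff 2 = 1 := hd ▸ (minpoly.monic (IsIntegral.of_finite k x)).coeff_natDegree
    have hc1 : (minpoly k x).coeff 1 = 0 := by
      have := hτ x hx
      rw [LinearMap.mem_ker.mp hxk] at this
      exact neg_eq_zero.mp this.symm
    simp [Finset.sum_range_succ, hc1, hc2, Algebra.smul_def] at h0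
    rw [map_neg]
    exact (eq_neg_of_add_eq_zero_right h0).symm
  · -- cubic case: Wedderburn's argument
    obtain ⟨L, hLc, hLmax, hLsep⟩ := CSACentralizer.exists_separable_maximal k D
    have hC := CSACentralizer.centralizer_eq_of_maximal k D L hLc hLmax
    have := CSACentralizer.isSimpleRing_subalgebra k D L
    have hL3 := CSACentralizer.finrank_mul_finrank_centralizer k D L
    rw [hC, hA] at hL3
    replace hL3 : Module.finrank k L = 3 := Nat.mul_self_inj.mp hL3
    have hsurj : ∀ u ∈ L, u ≠ 0 → ∀ l ∈ L, ∃ l' ∈ L, l' * u = l := by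
      intro u hu hu0 l hl
      let f : L →ₗ[k] L := LinearMap.mulRight k (⟨u, hu⟩ : L)
      have hf : Function.Injective f := fun a b h =>
        Subtype.ext (mul_right_cancel₀ hu0 (congrArg Subtype.val h))
      obtain ⟨l', hl'⟩ := LinearMap.injective_iff_surjective.mp hf ⟨l, hl⟩
      exact ⟨l', l'.2, congrArg Subtype.val hl'⟩
    -- the trace is non-zero on `L`
    have hτL : ∃ l ∈ L, τ l ≠ 0 := by
      by_contra h
      push Not at h
      obtain ⟨θ, hθL, hθ⟩ : ∃ θ ∈ L, θ ∉ (algebraMap k D).range := by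
        by_contra h'
        push Not at h'
        have hle : Subalgebra.toSubmodule L ≤ LinearMap.range (Algebra.linearMap k D) :=
          fun x hx => h' x hx
        have h1 := (Submodule.finrank_mono hle).trans (LinearMap.finrank_range_le _)
        rw [Module.finrank_self] at h1
        have : Module.finrank k (Subalgebra.toSubmodule L) = 3 := hL3
        omega
      have hθ0 : θ ≠ 0 := fun h0 => hθ (h0 ▸ zero_mem _)
      obtain ⟨θ', hθ'L, hθ'⟩ := hsurj θ hθL hθ0 1 L.one_mem
      have hθ'eq : θ' = θ⁻¹ := eq_inv_of_mul_eq_one_left hθ'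
      have hd := minpoly_natDegree_eq_p 3 hA hθ
      have hint : IsIntegral k θ := IsIntegral.of_finite k θ
      have hc2 : (minpoly k θ).coeff 2 = 0 := by
        have := hτ θ hθ
        rw [h θ hθL] at this
        exact neg_eq_zero.mp this.symm
      have hθ'out : θ⁻¹ ∉ (algebraMap k D).range := by
        rintro ⟨c, hc⟩
        exact hθ ⟨c⁻¹, by rw [map_inv₀, hc, inv_inv]⟩
      have hinv : (minpoly k θ⁻¹).coeff 2 = (minpoly k θ).coeff 1 / (minpoly k θ).coeff 0 :=
        coeff_two_inv hA hθ hθ'out hd
      have hc1 : (minpoly k θ).coeff 1 = 0 := by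
        have h1 := hτ θ⁻¹ hθ'out
        rw [h _ (hθ'eq ▸ hθ'L)] at h1
        have h2 := (neg_eq_zero.mp h1.symm).symm.trans hinv
        exact (div_eq_zero_iff.mp h2.symm).resolve_right (minpoly.coeff_zero_ne_zero hint hθ0)
      have hsep : (minpoly k θ).Separable := by
        have := Algebra.IsSeparable.isSeparable k (⟨θ, hθL⟩ : L)
        rw [IsSeparable] at this
        rwa [← minpoly.algHom_eq L.val Subtype.val_injective] at this
      have hd0 : derivative (minpoly k θ) = 0 := by
        ext i
        rw [coeff_derivative, coeff_zero]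
        rcases i with _ | _ | _ | i
        · rw [hc1, zero_mul]
        · rw [hc2, zero_mul]
        · have : ((2 : ℕ) : k) + 1 = 0 := by
            have := CharP.cast_eq_zero k 3
            norm_num at this ⊢
            exact this
          rw [this, mul_zero]
        · rw [coeff_eq_zero_of_natDegree_lt (by omega), zero_mul]
      exact ((separable_iff_derivative_ne_zero (minpoly.irreducible hint)).mp hsep) hd0
    -- an element orthogonal to `L`
    obtain ⟨u, hu0, hu⟩ : ∃ u : D, u ≠ 0 ∧ ∀ l ∈ L, τ (l * u) = 0 := by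
      let F : D →ₗ[k] L →ₗ[k] k :=
        LinearMap.mk₂ k (fun u (l : L) => τ ((l : D) * u))
          (fun a b l => by simp [mul_add]) (fun c a l => by simp)
          (fun a b l => by simp [add_mul]) (fun c a l => by simp)
      have hne : LinearMap.ker F ≠ ⊥ := by
        intro h0
        have h1 := LinearMap.finrank_le_finrank_of_injective (LinearMap.ker_eq_bot.mp h0)
        rw [Module.finrank_linearMap, Module.finrank_self, mul_one, hL3, hA] at h1
        omega
      obtain ⟨u, hu, hu0⟩ := Submodule.exists_mem_ne_zero_of_ne_bot hne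
      exact ⟨u, hu0, fun l hl => DFunLike.congr_fun (LinearMap.mem_ker.mp hu) ⟨l, hl⟩⟩
    have huL : u ∉ L := fun huL => by
      obtain ⟨l, hl, hl0⟩ := hτL
      obtain ⟨l', hl', rfl⟩ := hsurj u huL hu0 l hl
      exact hl0 (hu l' hl')
    obtain ⟨m, hmL, hm0, hm⟩ : ∃ m ∈ L, m ≠ 0 ∧ τ (u⁻¹ * m) = 0 := by
      let G : L →ₗ[k] k := τ ∘ₗ LinearMap.mulLeft k u⁻¹ ∘ₗ L.val.toLinearMap
      have h2 := G.finrank_range_add_finrank_ker
      have h3 := Submodule.finrank_le (LinearMap.range G)
      rw [Module.finrank_self] at h3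
      rw [hL3] at h2
      have hne : LinearMap.ker G ≠ ⊥ := fun h0 => by
        rw [h0, finrank_bot] at h2; omega
      obtain ⟨m, hm, hm0⟩ := Submodule.exists_mem_ne_zero_of_ne_bot hne
      exact ⟨m, m.2, fun h => hm0 (Subtype.ext h), LinearMap.mem_ker.mp hm⟩
    obtain ⟨m', hm'L, hm'⟩ := hsurj m hmL hm0 1 L.one_mem
    have hm'eq : m' = m⁻¹ := eq_inv_of_mul_eq_one_left hm'
    let x := m' * u
    have hxout : x ∉ (algebraMap k D).range := by
      rintro ⟨c, hc⟩
      apply huL
      have : u = m * algebraMap k D c := by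
        rw [hc]
        simp only [x]
        rw [hm'eq, ← mul_assoc, mul_inv_cancel₀ hm0, one_mul]
      rw [this]
      exact L.mul_mem hmL (L.algebraMap_mem c)
    have hxinv : x⁻¹ = u⁻¹ * m := by simp only [x]; rw [hm'eq, mul_inv_rev, inv_inv]
    have hxout' : x⁻¹ ∉ (algebraMap k D).range := by
      rintro ⟨c, hc⟩
      exact hxout ⟨c⁻¹, by rw [map_inv₀, hc, inv_inv]⟩
    have hd := minpoly_natDegree_eq_p 3 hA hxout
    have hint : IsIntegral k x := IsIntegral.of_finite k x
    have hc2 : (minpoly k x).coeff 2 = 0 := by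
      have := hτ x hxout
      rw [show τ x = 0 from hu m' hm'L] at this
      exact neg_eq_zero.mp this.symm
    have hx0 : x ≠ 0 := fun h0 => hxout (h0 ▸ zero_mem _)
    have hc1 : (minpoly k x).coeff 1 = 0 := by
      have h1 := hτ x⁻¹ hxout'
      rw [show τ x⁻¹ = 0 from hxinv ▸ hm] at h1
      have h2 := (neg_eq_zero.mp h1.symm).symm.trans (coeff_two_inv hA hxout hxout' hd)
      exact (div_eq_zero_iff.mp h2.symm).resolve_right (minpoly.coeff_zero_ne_zero hint hx0)
    refine ⟨x, hxout, -(minpoly k x).coeff 0, ?_⟩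
    have h0 : aeval x (minpoly k x) = 0 := minpoly.aeval k x
    rw [aeval_eq_sum_range, hd] at h0
    have hc3 : (minpoly k x).coeff 3 = 1 := hd ▸ (minpoly.monic hint).coeff_natDegree
    simp [Finset.sum_range_succ, hc1, hc2, hc3, Algebra.smul_def] at h0
    rw [map_neg]
    exact (eq_neg_of_add_eq_zero_right h0).symm
where
  coeff_two_inv {D : Type u} [DivisionRing D] [Algebra k D] [Algebra.IsCentral k D]
      [CharP k 3] (hA : Module.finrank k D = 3 * 3) {θ : D}
      (hθ : θ ∉ (algebraMap k D).range) (hθ' : θ⁻¹ ∉ (algebraMap k D).range)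
      (hd : (minpoly k θ).natDegree = 3) :
      (minpoly k θ⁻¹).coeff 2 = (minpoly k θ).coeff 1 / (minpoly k θ).coeff 0 := by
    haveI : Fact (Nat.Prime 3) := ⟨by norm_num⟩
    haveI : FiniteDimensional k D := Module.finite_of_finrank_pos (by rw [hA]; norm_num)
    have hint : IsIntegral k θ := IsIntegral.of_finite k θ
    have hθ0 : θ ≠ 0 := fun h0 => hθ (h0 ▸ zero_mem _)
    set a0 := (minpoly k θ).coeff 0
    set a1 := (minpoly k θ).coeff 1
    set a2 := (minpoly k θ).coeff 2
    have ha0 : a0 ≠ 0 := minpoly.coeff_zero_ne_zero hint hθ0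
    have hc3 : (minpoly k θ).coeff 3 = 1 := hd ▸ (minpoly.monic hint).coeff_natDegree
    have h0 : aeval θ (minpoly k θ) = 0 := minpoly.aeval k θ
    rw [aeval_eq_sum_range, hd] at h0
    simp only [Finset.sum_range_succ, Finset.sum_range_zero, zero_add, hc3, one_smul, pow_zero,
      pow_one] at h0
    let P : k[X] := X ^ 3 + C (a1 / a0) * X ^ 2 + C (a2 / a0) * X + C (1 / a0)
    have hPm : P.Monic := by simp only [P]; monicity!
    have hPd : P.natDegree = 3 := by simp only [P]; compute_degree!
    have e1 : θ * θ⁻¹ = 1 := mul_inv_cancel₀ hθ0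
    have hP : aeval θ⁻¹ P = 0 := by
      have h1 : (a0 • (1 : D) + a1 • θ + a2 • θ ^ 2 + θ ^ 3) * θ⁻¹ ^ 3 = 0 := by rw [h0, zero_mul]
      have e3 : θ ^ 3 * θ⁻¹ ^ 3 = 1 := by simp only [pow_succ, pow_zero, one_mul, mul_assoc]; simp [hθ0]
      have e2 : θ ^ 2 * θ⁻¹ ^ 3 = θ⁻¹ := by simp only [pow_succ, pow_zero, one_mul, mul_assoc]; simp [hθ0]
      have e1' : θ * θ⁻¹ ^ 3 = θ⁻¹ ^ 2 := by simp only [pow_succ, pow_zero, one_mul, mul_assoc]; simp [hθ0]
      rw [add_mul, add_mul, add_mul, smul_mul_assoc, smul_mul_assoc, smul_mul_assoc, e3, e2, e1',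
        one_mul] at h1
      have h2 := congrArg (fun z => a0⁻¹ • z) h1
      simp only [smul_add, smul_smul, inv_mul_cancel₀ ha0, one_smul, smul_zero] at h2
      simp only [P, map_add, map_mul, map_pow, aeval_X, aeval_C]
      simp only [Algebra.algebraMap_eq_smul_one, smul_mul_assoc, one_mul, div_eq_inv_mul, mul_one]
      exact h2
    have hd' := minpoly_natDegree_eq_p 3 hA hθ'
    have : P = minpoly k θ⁻¹ := eq_of_monic_of_dvd_of_natDegree_le
      (minpoly.monic (IsIntegral.of_finite k _)) hPm (minpoly.dvd k _ hP) (by rw [hPd, hd'])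
    rw [← this]
    simp [P]

end division

lemma exists_pow_mem (p : ℕ) [Fact p.Prime] [CharP k p] (hp : p = 2 ∨ p = 3)
    {A : Type u} [Ring A] [Algebra k A] [Algebra.IsCentral k A] [IsSimpleRing A]
    (hA : Module.finrank k A = p * p) :
    ∃ x : A, x ∉ (algebraMap k A).range ∧ x ^ p ∈ (algebraMap k A).range := by
  by_cases h : ∀ a : A, IsUnit a ∨ a = 0
  · letI : DivisionRing A := DivisionRing.ofIsUnitOrEqZero h
    exact exists_pow_mem_division p hA hp
  push Not at h
  obtain ⟨a, hau, ha0⟩ := h
  haveI : FiniteDimensional k A :=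
    Module.finite_of_finrank_pos (by rw [hA]; exact Nat.mul_pos (Fact.out : p.Prime).pos (Fact.out : p.Prime).pos)
  obtain ⟨y, hy0, hy⟩ : ∃ y : A, y ≠ 0 ∧ a * y = 0 := by
    by_contra hc
    push Not at hc
    have hinj : Function.Injective (LinearMap.mulLeft k a) := by
      rw [injective_iff_map_eq_zero]
      exact fun y hy => by_contra fun hy0 => hc y hy0 hy
    obtain ⟨b, hb⟩ := LinearMap.injective_iff_surjective.mp hinj 1
    exact hau ⟨⟨a, b, hb, hinj (by show a * (b * a) = a * 1; rw [← mul_assoc, show a * b = 1 from hb, one_mul, mul_one])⟩, rfl⟩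
  obtain ⟨z, hz⟩ : ∃ z : A, y * z * a ≠ 0 := by
    by_contra hc
    push Not at hc
    let I : TwoSidedIdeal A := TwoSidedIdeal.mk' {w | ∀ z, y * z * w = 0}
      (fun z => mul_zero _) (fun h1 h2 z => by rw [mul_add, h1, h2, add_zero])
      (fun h1 z => by rw [mul_neg, h1, neg_zero])
      (fun {b w} h1 z => by rw [← mul_assoc, mul_assoc y z b]; exact h1 (z * b))
      (fun {w b} h1 z => by rw [← mul_assoc, h1, zero_mul])
    have ha : a ∈ I := (TwoSidedIdeal.mem_mk' ..).mpr hc
    have hone : (1 : A) ∈ I := IsSimpleRing.one_mem_of_ne_zero_mem _ ha0 ha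
    have := ((TwoSidedIdeal.mem_mk' ..).mp hone : ∀ z, y * z * 1 = 0) 1
    exact hy0 (by simpa using this)
  let w := y * z * a
  have hw2 : w * w = 0 := by
    simp only [w]
    rw [show y * z * a * (y * z * a) = y * z * (a * y) * (z * a) by simp [mul_assoc], hy]
    simp
  refine ⟨w, ?_, 0, ?_⟩
  · rintro ⟨c, hc⟩
    apply hz
    have hwc : algebraMap k A (c * c) = 0 := by rw [map_mul, hc, hw2]
    have hc0 : c = 0 := mul_self_eq_zero.mp
      ((algebraMap k A).injective (hwc.trans (map_zero _).symm))
    show w = 0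
    rw [← hc, hc0, map_zero]
  · rw [map_zero]
    obtain ⟨j, rfl⟩ : ∃ j, p = j + 2 := ⟨p - 2, by rcases hp with rfl | rfl <;> rfl⟩
    rw [pow_add, pow_two, hw2, mul_zero]

section group

lemma exists_big_subgroup {A : Type u} [Ring A] [Algebra k A] [Infinite k] (p : ℕ) [Fact p.Prime]
    [CharP k p] {H : Type*} [Group H] (ξ : Aˣ →* H)
    (hker : ξ.ker = (Units.map (algebraMap k A : k →* A)).range)
    {x : A} (hx : x ∉ (algebraMap k A).range) (hxp : x ^ p ∈ (algebraMap k A).range) (N : ℕ) :
    ∃ G : Subgroup H, Finite G ∧ N < Nat.card G := by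
  classical
  haveI : Nontrivial A := ⟨x, 0, fun h0 => hx (h0 ▸ zero_mem _)⟩
  obtain ⟨c, hc⟩ := hxp
  haveI := ExpChar.prime (R := k) (Fact.out : p.Prime)
  haveI : CharP A p := charP_of_injective_algebraMap (algebraMap k A).injective p
  have hpow : ∀ a : k, (x + algebraMap k A a) ^ p = algebraMap k A (c + a ^ p) := fun a => by
    rw [add_pow_char_of_commute p (Algebra.commutes a x).symm, map_add, map_pow, hc]
  have hbad : {a : k | c + a ^ p = 0}.Finite :=
    Set.Subsingleton.finite fun a ha b hb =>
      frobenius_inj k p (by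
        show a ^ p = b ^ p
        exact add_left_cancel ((ha : c + a ^ p = 0).trans (hb : c + b ^ p = 0).symm))
  obtain ⟨s, hs, hcard⟩ := hbad.infinite_compl.exists_subset_card_eq (N + 1)
  have hu : ∀ a : ↥s, IsUnit (x + algebraMap k A a) := fun a => by
    have h : IsUnit ((x + algebraMap k A a) ^ p) := by
      rw [hpow]; exact (isUnit_iff_ne_zero.mpr (hs a.2)).map _
    exact (isUnit_pow_iff (Fact.out : p.Prime).ne_zero).mp h
  let g : ↥s → H := fun a => ξ (hu a).unit
  have hcomm : ∀ a b, g a * g b = g b * g a := fun a b => by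
    rw [← map_mul, ← map_mul]
    congr 1
    refine Units.ext ?_
    simp only [Units.val_mul, IsUnit.unit_spec]
    exact (((Commute.refl x).add_left (Algebra.commutes (a : k) x)).add_right
      (Algebra.commutes (b : k) (x + algebraMap k A a)).symm)
  have hgp : ∀ a, g a ^ p = 1 := fun a => by
    rw [← map_pow, ← MonoidHom.mem_ker, hker]
    have hne : c + (a : k) ^ p ≠ 0 := hs a.2
    exact ⟨Units.mk0 _ hne, Units.ext (by simp [hpow])⟩
  have hcs : ∀ y ∈ Set.range g, ∀ z ∈ Set.range g, y * z = z * y := by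
    rintro _ ⟨a, rfl⟩ _ ⟨b, rfl⟩; exact hcomm a b
  let G := Subgroup.closure (Set.range g)
  letI := Subgroup.closureCommGroupOfComm hcs
  haveI : Group.FG G := (Group.fg_iff_subgroup_fg _).mpr
    (Subgroup.fg_iff _ |>.mpr ⟨_, rfl, Set.finite_range g⟩)
  have hfin : Finite G := by
    refine CommGroup.finite_of_fg_isMulTorsion _ fun y => ?_
    refine isOfFinOrder_iff_pow_eq_one.mpr ⟨p, (Fact.out : p.Prime).pos, ?_⟩
    obtain ⟨y, hy⟩ := y
    induction hy using Subgroup.closure_induction with
    | mem z hz => obtain ⟨a, rfl⟩ := hz; exact Subtype.ext (hgp a)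
    | one => exact one_pow p
    | mul a b ha hb iha ihb =>
      have : (⟨a, ha⟩ : G) * ⟨b, hb⟩ = ⟨a * b, mul_mem ha hb⟩ := rfl
      rw [← this, mul_pow, iha, ihb, one_mul]
    | inv a ha iha =>
      have : (⟨a, ha⟩ : G)⁻¹ = ⟨a⁻¹, inv_mem ha⟩ := rfl
      rw [← this, inv_pow, iha, inv_one]
  refine ⟨G, hfin, ?_⟩
  have hginj : Function.Injective g := fun a b hab => by
    have h1 : (hu b).unit⁻¹ * (hu a).unit ∈ ξ.ker := by
      rw [MonoidHom.mem_ker, map_mul, map_inv]; simp only [g] at hab; rw [hab, inv_mul_cancel]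
    rw [hker] at h1
    obtain ⟨l, hl⟩ := h1
    have h2 : x + algebraMap k A a = (x + algebraMap k A b) * algebraMap k A (l : k) := by
      have h := congrArg (fun u => ((hu b).unit * u : Aˣ)) hl
      simp only [mul_inv_cancel_left] at h
      have := congrArg Units.val h
      simpa using this.symm
    have h3 : algebraMap k A ((a : k) - b * l) = algebraMap k A (l - 1) * x := by
      rw [map_sub, map_sub, map_mul, map_one, sub_mul, one_mul, Algebra.commutes (l : k) x]
      rw [add_mul] at h2
      linear_combination (norm := abel) h2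
    by_cases hl1 : (l : k) = 1
    · rw [hl1, sub_self, map_zero, zero_mul, mul_one] at h3
      exact Subtype.ext (sub_eq_zero.mp ((algebraMap k A).injective (h3.trans (map_zero _).symm)))
    · exfalso
      apply hx
      refine ⟨((l : k) - 1)⁻¹ * ((a : k) - b * l), ?_⟩
      rw [map_mul, h3, ← mul_assoc, ← map_mul, inv_mul_cancel₀ (sub_ne_zero.mpr hl1), map_one, one_mul]
  calc N < N + 1 := Nat.lt_succ_self N
    _ = Nat.card ↥s := by simp [hcard]
    _ ≤ Nat.card G := Nat.card_le_card_of_injective
        (fun a => (⟨g a, Subgroup.subset_closure ⟨a, rfl⟩⟩ : G))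
        (fun a b h => hginj (congrArg Subtype.val h))

end group
end Groth.Agent.SBAut
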