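import Mathlib
import Groth.Prelude.Def_BrSev2

/-! Endomorphisms of a `k`-scheme from natural self-maps of its points in affine schemes. -/

set_option autoImplicit false
set_option backward.isDefEq.respectTransparency.types false
set_option maxHeartbeats 2000000
universe u

namespace Groth.Agent.SBAut
open CategoryTheory AlgebraicGeometry BrSev

variable {k : Type u} [Field k] {X : Scheme.{u}} (f : X ⟶ Spec (CommRingCat.of k))

/-- structure map of an affine scheme over `X` -/
noncomputable def structHom {R : CommRingCat.{u}} (g : Spec R ⟶ X) : k →+* R :=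
  (Spec.preimage (g ≫ f)).hom

lemma ext_of_pts {F F' : X ⟶ X}
    (h : ∀ (R : Type u) [CommRing R] [Algebra k R] (g : Pts f R), g.1 ≫ F = g.1 ≫ F') : F = F' := by
  have key : ∀ {R : CommRingCat.{u}} (g : Spec R ⟶ X), g ≫ F = g ≫ F' := fun {R} g =>
    letI : Algebra k R := (structHom f g).toAlgebra
    h R ⟨g, (Spec.map_preimage _).symm⟩
  exact X.affineCover.hom_ext _ _ fun i => key _

/-- a natural self-map of points gives an endomorphism -/
lemma exists_hom (η : ∀ (R : Type u) [CommRing R] [Algebra k R], Pts f R → Pts f R)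
    (hnat : ∀ (R S : Type u) [CommRing R] [Algebra k R] [CommRing S] [Algebra k S]
      (φ : R →ₐ[k] S) (g : Pts f R), η S (Pts.map f φ g) = Pts.map f φ (η R g)) :
    ∃ F : X ⟶ X, F ≫ f = f ∧
      ∀ (R : Type u) [CommRing R] [Algebra k R] (g : Pts f R), g.1 ≫ F = (η R g).1 := by
  -- value on an affine scheme over `X`
  let val : ∀ {R : CommRingCat.{u}} (g : Spec R ⟶ X), Spec R ⟶ X := fun {R} g =>
    letI : Algebra k R := (structHom f g).toAlgebra
    (η R ⟨g, (Spec.map_preimage _).symm⟩).1
  have hval : ∀ (R : Type u) [CommRing R] [inst : Algebra k R] (g : Pts f R),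
      val (R := CommRingCat.of R) g.1 = (η R g).1 := by
    intro R _ inst g
    have hinst : (structHom f (R := CommRingCat.of R) g.1).toAlgebra = inst := by
      apply Algebra.algebra_ext
      intro x
      show (Spec.preimage (g.1 ≫ f)).hom x = algebraMap k R x
      rw [g.2, Spec.preimage_map]
      rfl
    have : ∀ (i' : Algebra k R) (_ : i' = inst) (g' : @Pts k _ X f R _ i'),
        g'.1 = g.1 → (@η R _ i' g').1 = (@η R _ inst g).1 := by
      intro i' hi g' h
      subst hi
      obtain rfl : g' = g := Subtype.ext h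
      rfl
    exact this (structHom f (R := CommRingCat.of R) g.1).toAlgebra hinst ⟨g.1, (Spec.map_preimage _).symm⟩ rfl
  have hvalnat : ∀ {R S : CommRingCat.{u}} (ψ : R ⟶ S) (g : Spec R ⟶ X),
      val (Spec.map ψ ≫ g) = Spec.map ψ ≫ val g := by
    intro R S ψ g
    letI : Algebra k R := (structHom f g).toAlgebra
    letI : Algebra k S := (ψ.hom.comp (structHom f g)).toAlgebra
    let φ : R →ₐ[k] S := ⟨ψ.hom, fun _ => rfl⟩
    have := congrArg Subtype.val (hnat R S φ ⟨g, (Spec.map_preimage _).symm⟩)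
    exact (hval S (Pts.map f φ ⟨g, (Spec.map_preimage _).symm⟩)).trans this
  have hvalnat' : ∀ {R S : CommRingCat.{u}} (h : Spec S ⟶ Spec R) (g : Spec R ⟶ X),
      val (h ≫ g) = h ≫ val g := fun h g => by
    obtain ⟨ψ, rfl⟩ := Spec.homEquiv.symm.surjective h
    exact hvalnat ψ g
  have hvalf : ∀ {R : CommRingCat.{u}} (g : Spec R ⟶ X), val g ≫ f = g ≫ f := fun {R} g =>
    letI : Algebra k R := (structHom f g).toAlgebra
    (η R ⟨g, (Spec.map_preimage _).symm⟩).2.trans (Spec.map_preimage _)
  let 𝒰 := X.affineCover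
  have compat : ∀ i j, Limits.pullback.fst (𝒰.f i) (𝒰.f j) ≫ val (𝒰.f i) =
      Limits.pullback.snd (𝒰.f i) (𝒰.f j) ≫ val (𝒰.f j) := by
    intro i j
    refine (Limits.pullback (𝒰.f i) (𝒰.f j)).affineCover.hom_ext _ _ fun l => ?_
    set ι := (Limits.pullback (𝒰.f i) (𝒰.f j)).affineCover.f l
    rw [← Category.assoc, ← Category.assoc]
    erw [← hvalnat', ← hvalnat']
    congr 1
    erw [Category.assoc, Category.assoc, Limits.pullback.condition]
    rfl
  refine ⟨𝒰.glueMorphisms (fun i => val (𝒰.f i)) compat, ?_, ?_⟩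
  · refine 𝒰.hom_ext _ _ fun i => ?_
    rw [← Category.assoc, 𝒰.ι_glueMorphisms]
    exact hvalf _
  · intro R _ _ g
    rw [← hval R g]
    refine Scheme.Cover.hom_ext (Precoverage.ZeroHypercover.pullback₁ g.1 𝒰) _ _ fun i => ?_
    refine (Limits.pullback g.1 (𝒰.f i)).affineCover.hom_ext _ _ fun l => ?_
    set ι := (Limits.pullback g.1 (𝒰.f i)).affineCover.f l
    show ι ≫ Limits.pullback.fst g.1 (𝒰.f i) ≫ g.1 ≫ _ = ι ≫ Limits.pullback.fst g.1 (𝒰.f i) ≫ _
    rw [reassoc_of% Limits.pullback.condition (f := g.1) (g := 𝒰.f i), 𝒰.ι_glueMorphisms,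
      ← Category.assoc, ← Category.assoc]
    erw [← hvalnat', ← hvalnat']
    congr 1
    erw [Category.assoc, Category.assoc, Limits.pullback.condition]
    rfl

end Groth.Agent.SBAut
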