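import Groth.Agent.SBAut.Grass
import Groth.Agent.SBAut.Yoneda

/-! The action of automorphisms on points, and the homomorphism `Aˣ → Aut X`. -/

set_option autoImplicit false
set_option backward.isDefEq.respectTransparency.types false
set_option maxHeartbeats 2000000
universe u

namespace Groth.Agent.SBAut
open scoped TensorProduct
open CategoryTheory AlgebraicGeometry BrSev

variable {k : Type u} [Field k] {A : Type u} [Ring A] [Algebra k A] {c : ℕ}
  {X : Scheme.{u}} {f : X ⟶ Spec (CommRingCat.of k)}

/-- automorphisms act on points -/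
noncomputable def ptsAct (F : Over.mk f ⟶ Over.mk f) {R : Type u} [CommRing R] [Algebra k R]
    (g : Pts f R) : Pts f R :=
  ⟨g.1 ≫ F.left, by
    have : F.left ≫ f = f := Over.w F
    exact (Category.assoc _ _ _).trans ((congrArg (g.1 ≫ ·) this).trans g.2)⟩

variable (σ : SBStr k A c f)

/-- automorphisms act on ideals -/
noncomputable def act (α : Aut (Over.mk f)) (R : Type u) [CommRing R] [Algebra k R]
    (N : SBSet k A c R) : SBSet k A c R :=
  σ.bij R (ptsAct α.hom ((σ.bij R).symm N))

lemma act_one (R : Type u) [CommRing R] [Algebra k R] (N : SBSet k A c R) : act σ 1 R N = N := by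
  have : ptsAct (f := f) (1 : Aut (Over.mk f)).hom ((σ.bij R).symm N) = (σ.bij R).symm N :=
    Subtype.ext (Category.comp_id _)
  rw [act, this, Equiv.apply_symm_apply]

lemma act_mul (α β : Aut (Over.mk f)) (R : Type u) [CommRing R] [Algebra k R]
    (N : SBSet k A c R) : act σ (α * β) R N = act σ α R (act σ β R N) := by
  simp only [act, Equiv.symm_apply_apply]
  congr 1

lemma act_natural (α : Aut (Over.mk f)) {R S : Type u} [CommRing R] [Algebra k R] [CommRing S]
    [Algebra k S] (φ : R →ₐ[k] S) (N : SBSet k A c R) :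
    act σ α S (sbMap φ N) = sbMap φ (act σ α R N) := by
  obtain ⟨g, rfl⟩ := (σ.bij R).surjective N
  simp only [act, ← bij_natural, Equiv.symm_apply_apply]
  congr 1

lemma act_bij (α : Aut (Over.mk f)) (R : Type u) [CommRing R] [Algebra k R] (g : Pts f R) :
    (σ.bij R).symm (act σ α R (σ.bij R g)) = ptsAct α.hom g := by
  simp [act]

lemma aut_ext {α β : Aut (Over.mk f)}
    (h : ∀ (R : Type u) [CommRing R] [Algebra k R] (N : SBSet k A c R),
      act σ α R N = act σ β R N) : α = β := by
  refine Iso.ext (Over.OverMorphism.ext (ext_of_pts f fun R _ _ g => ?_))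
  have := h R (σ.bij R g)
  rw [← (σ.bij R).symm.injective.eq_iff, act_bij, act_bij] at this
  exact congrArg Subtype.val this

lemma exists_xi (a : Aˣ) : ∃ α : Aut (Over.mk f),
    ∀ (R : Type u) [CommRing R] [Algebra k R] (N : SBSet k A c R),
      act σ α R N = twist (oneTmul R a) N := by
  let η : Aˣ → ∀ (R : Type u) [CommRing R] [Algebra k R], Pts f R → Pts f R := fun b R _ _ g =>
    (σ.bij R).symm (twist (oneTmul R b) (σ.bij R g))
  have hnat : ∀ (b : Aˣ) (R S : Type u) [CommRing R] [Algebra k R] [CommRing S] [Algebra k S]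
      (φ : R →ₐ[k] S) (g : Pts f R), η b S (Pts.map f φ g) = Pts.map f φ (η b R g) := by
    intro b R S _ _ _ _ φ g
    apply (σ.bij S).injective
    simp only [η, Equiv.apply_symm_apply]
    rw [bij_natural, bij_natural, Equiv.apply_symm_apply, sbMap_twist, phiM_oneTmul]
  choose F hF hFη using fun b => exists_hom f (η b) (hnat b)
  have hinv : ∀ b b' : Aˣ, b' * b = 1 → F b ≫ F b' = 𝟙 X := by
    intro b b' hbb
    refine ext_of_pts f fun R _ _ g => ?_
    rw [Category.comp_id, ← Category.assoc, hFη b, hFη b']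
    simp only [η, Equiv.apply_symm_apply]
    rw [← twist_mul, ← map_mul, hbb, map_one, twist_one, Equiv.symm_apply_apply]
  refine ⟨Over.isoMk ⟨F a, F a⁻¹, hinv a a⁻¹ (inv_mul_cancel a), hinv a⁻¹ a (mul_inv_cancel a)⟩
    (hF a), fun R _ _ N => ?_⟩
  obtain ⟨g, rfl⟩ := (σ.bij R).surjective N
  rw [act, Equiv.symm_apply_apply]
  refine Eq.trans (congrArg (σ.bij R) (Subtype.ext (hFη a R g))) ?_
  simp [η]

/-- the homomorphism `Aˣ → Aut X` -/
noncomputable def xi : Aˣ →* Aut (Over.mk f) where
  toFun a := (exists_xi σ a).choose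
  map_one' := aut_ext σ fun R _ _ N => by
    rw [(exists_xi σ 1).choose_spec, map_one, twist_one, act_one]
  map_mul' a b := aut_ext σ fun R _ _ N => by
    rw [(exists_xi σ (a * b)).choose_spec, act_mul, (exists_xi σ b).choose_spec,
      (exists_xi σ a).choose_spec, map_mul, twist_mul]

lemma act_xi (a : Aˣ) (R : Type u) [CommRing R] [Algebra k R] (N : SBSet k A c R) :
    act σ (xi σ a) R N = twist (oneTmul R a) N :=
  (exists_xi σ a).choose_spec R N

lemma xi_algebraMap (x : kˣ) : xi σ (Units.map (algebraMap k A : k →* A) x) = 1 := by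
  refine aut_ext σ fun R _ _ N => ?_
  rw [act_xi, act_one]
  refine twist_scalar _ (Units.map (algebraMap k R : k →* R) x) ?_ N
  simp [oneTmul, Algebra.algebraMap_eq_smul_one, TensorProduct.smul_tmul]

end Groth.Agent.SBAut
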