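import Mathlib
import Groth.Prelude.Def_BrSev2

/-! Base change and right translation of points of the Severi–Brauer functor. -/

set_option autoImplicit false
set_option backward.isDefEq.respectTransparency.types false
set_option maxHeartbeats 2000000
universe u

namespace Groth.Agent.SBAut
open scoped TensorProduct
open BrSev

variable {k : Type u} [Field k] {A : Type u} [Ring A] [Algebra k A] {c : ℕ}
  {R S T : Type u} [CommRing R] [Algebra k R] [CommRing S] [Algebra k S] [CommRing T] [Algebra k T]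

/-- `R ⊗ A → S ⊗ A` -/
noncomputable def phiM (φ : R →ₐ[k] S) : R ⊗[k] A →ₐ[k] S ⊗[k] A :=
  Algebra.TensorProduct.map φ (AlgHom.id k A)

@[simp] lemma phiM_tmul (φ : R →ₐ[k] S) (r : R) (a : A) :
    phiM φ (r ⊗ₜ[k] a) = φ r ⊗ₜ[k] a := rfl

lemma phiM_smul (φ : R →ₐ[k] S) (r : R) (z : R ⊗[k] A) :
    phiM φ (r • z) = φ r • phiM φ z := by
  induction z using TensorProduct.induction_on with
  | zero => simp
  | tmul r' a => simp [TensorProduct.smul_tmul']
  | add x y hx hy => simp [smul_add, map_add, hx, hy]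

lemma grassMap_toSubmodule (φ : R →ₐ[k] S) (N : Module.Grassmannian R (R ⊗[k] A) c) :
    (Module.Grassmannian.map φ N).toSubmodule =
      Submodule.span S (phiM φ '' (N.toSubmodule : Set (R ⊗[k] A))) := by
  rw [Module.Grassmannian.map_toSubmodule]
  let := φ.toAlgebra
  have : IsScalarTower k R S := IsScalarTower.of_algebraMap_eq' φ.comp_algebraMap.symm
  let e := TensorProduct.AlgebraTensorModule.cancelBaseChange k R S S A
  have he : ∀ n : R ⊗[k] A, e ((1 : S) ⊗ₜ[R] n) = phiM φ n := by
    intro n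
    induction n using TensorProduct.induction_on with
    | zero => simp
    | tmul r a =>
      simp [e, Algebra.smul_def, RingHom.algebraMap_toAlgebra]
    | add x y hx hy => rw [TensorProduct.tmul_add, map_add, map_add, hx, hy]
  apply le_antisymm
  · intro z hz
    rw [LinearMap.mem_ker] at hz
    obtain ⟨w, rfl⟩ : ∃ w, e w = z := e.surjective z
    have hw : N.toSubmodule.mkQ.baseChange S w = 0 := by
      change N.toSubmodule.mkQ.baseChange S (e.symm (e w)) = 0 at hz
      rwa [e.symm_apply_apply] at hz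
    have hex : Function.Exact (N.toSubmodule.subtype.baseChange S) (N.toSubmodule.mkQ.baseChange S) :=
      lTensor_exact S (LinearMap.exact_subtype_mkQ N.toSubmodule) N.toSubmodule.mkQ_surjective
    obtain ⟨v, rfl⟩ := (hex w).mp hw
    clear hz hw
    induction v using TensorProduct.induction_on with
    | zero => simp
    | tmul s n =>
      have : (s ⊗ₜ[R] (n : R ⊗[k] A)) = s • ((1 : S) ⊗ₜ[R] (n : R ⊗[k] A)) := by
        rw [TensorProduct.smul_tmul', smul_eq_mul, mul_one]
      rw [LinearMap.baseChange_tmul, Submodule.coe_subtype, this, map_smul, he]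
      exact Submodule.smul_mem _ _ (Submodule.subset_span ⟨_, n.2, rfl⟩)
    | add x y hx hy =>
      rw [map_add, map_add]
      exact Submodule.add_mem _ hx hy
  · rw [Submodule.span_le]
    rintro _ ⟨n, hn, rfl⟩
    rw [SetLike.mem_coe, LinearMap.mem_ker, ← he n]
    simp only [Module.Grassmannian.baseChangeMkQ, LinearMap.comp_apply, e, LinearEquiv.coe_coe,
      LinearEquiv.symm_apply_apply, LinearMap.baseChange_tmul, Submodule.mkQ_apply]
    rw [(Submodule.Quotient.mk_eq_zero _).mpr hn, TensorProduct.tmul_zero]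

/-- base change of points -/
noncomputable def sbMap (φ : R →ₐ[k] S) (N : SBSet k A c R) : SBSet k A c S :=
  ⟨Module.Grassmannian.map φ N.1, fun a x hx => by
    rw [grassMap_toSubmodule] at hx ⊢
    induction hx using Submodule.span_induction with
    | mem y hy =>
      obtain ⟨n, hn, rfl⟩ := hy
      induction a using TensorProduct.induction_on with
      | zero => simp
      | tmul s a =>
        have : (s ⊗ₜ[k] a) * phiM φ n = s • phiM φ ((1 ⊗ₜ[k] a) * n) := by
          rw [map_mul, phiM_tmul, map_one, ← smul_mul_assoc, TensorProduct.smul_tmul', smul_eq_mul,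
            mul_one]
        rw [this]
        exact Submodule.smul_mem _ _ (Submodule.subset_span ⟨_, N.2 _ _ hn, rfl⟩)
      | add p q hp hq => rw [add_mul]; exact Submodule.add_mem _ hp hq
    | zero => simp
    | add p q _ _ hp hq => rw [mul_add]; exact Submodule.add_mem _ hp hq
    | smul r p _ hp => rw [mul_smul_comm]; exact Submodule.smul_mem _ _ hp⟩

lemma sbMap_toSubmodule (φ : R →ₐ[k] S) (N : SBSet k A c R) :
    (sbMap φ N).1.toSubmodule = Submodule.span S (phiM φ '' (N.1.toSubmodule : Set (R ⊗[k] A))) :=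
  grassMap_toSubmodule φ N.1

lemma sbExt {N N' : SBSet k A c R} (h : N.1.toSubmodule = N'.1.toSubmodule) : N = N' :=
  Subtype.ext (Module.Grassmannian.ext h)

lemma bij_natural {X : AlgebraicGeometry.Scheme.{u}}
    {p : X ⟶ AlgebraicGeometry.Spec (CommRingCat.of k)} (σ : SBStr k A c p)
    (φ : R →ₐ[k] S) (g : Pts p R) :
    σ.bij S (Pts.map p φ g) = sbMap φ (σ.bij R g) :=
  sbExt (σ.natural R S φ g)

/-- right translation `z ↦ z * u⁻¹` -/
noncomputable def rtrans (u : (R ⊗[k] A)ˣ) : R ⊗[k] A ≃ₗ[R] R ⊗[k] A :=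
  LinearEquiv.ofLinearMap (LinearMap.mulRight R ((u⁻¹ : (R ⊗[k] A)ˣ) : R ⊗[k] A))
    (LinearMap.mulRight R (u : R ⊗[k] A))
    (LinearMap.ext fun z => by simp [mul_assoc]) (LinearMap.ext fun z => by simp [mul_assoc])

@[simp] lemma rtrans_apply (u : (R ⊗[k] A)ˣ) (z : R ⊗[k] A) :
    rtrans u z = z * ((u⁻¹ : (R ⊗[k] A)ˣ) : R ⊗[k] A) := rfl

/-- right translation of a point -/
noncomputable def twist (u : (R ⊗[k] A)ˣ) (N : SBSet k A c R) : SBSet k A c R :=
  ⟨{  toSubmodule := N.1.toSubmodule.map (rtrans u).toLinearMap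
      finite_quotient := Module.Finite.equiv (Submodule.Quotient.equiv _ _ (rtrans u) rfl)
      projective_quotient := Module.Projective.of_equiv (Submodule.Quotient.equiv _ _ (rtrans u) rfl)
      rankAtStalk_eq := fun p => by
        rw [← Module.rankAtStalk_eq_of_equiv (Submodule.Quotient.equiv _ _ (rtrans u) rfl)]
        exact N.1.rankAtStalk_eq p },
    fun a x hx => by
      obtain ⟨y, hy, rfl⟩ := hx
      exact ⟨a * y, N.2 a y hy, by simp [mul_assoc]⟩⟩

lemma twist_toSubmodule (u : (R ⊗[k] A)ˣ) (N : SBSet k A c R) :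
    (twist u N).1.toSubmodule = N.1.toSubmodule.map (rtrans u).toLinearMap := rfl

lemma mem_twist (u : (R ⊗[k] A)ˣ) (N : SBSet k A c R) (z : R ⊗[k] A) :
    z ∈ (twist u N).1.toSubmodule ↔ z * (u : R ⊗[k] A) ∈ N.1.toSubmodule := by
  rw [twist_toSubmodule, Submodule.mem_map_equiv]
  rfl

lemma twist_one (N : SBSet k A c R) : twist 1 N = N :=
  sbExt (Submodule.ext fun z => by simp [mem_twist])

lemma twist_mul (u v : (R ⊗[k] A)ˣ) (N : SBSet k A c R) :
    twist (u * v) N = twist u (twist v N) :=
  sbExt (Submodule.ext fun z => by simp [mem_twist, mul_assoc])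

lemma twist_scalar (u : (R ⊗[k] A)ˣ) (r : Rˣ) (hu : (u : R ⊗[k] A) = (r : R) ⊗ₜ[k] (1 : A))
    (N : SBSet k A c R) : twist u N = N := by
  refine sbExt (Submodule.ext fun z => ?_)
  have : z * (u : R ⊗[k] A) = (r : R) • z := by
    rw [hu, ← mul_one z, mul_assoc, one_mul, ← mul_smul_comm]
    congr 1
    rw [Algebra.TensorProduct.one_def, TensorProduct.smul_tmul', smul_eq_mul, mul_one]
  rw [mem_twist, this, Submodule.smul_mem_iff_of_isUnit _ r.isUnit]

lemma sbMap_twist (φ : R →ₐ[k] S) (u : (R ⊗[k] A)ˣ) (N : SBSet k A c R) :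
    sbMap φ (twist u N) = twist (Units.map (phiM φ).toMonoidHom u) (sbMap φ N) := by
  apply sbExt
  rw [sbMap_toSubmodule, twist_toSubmodule, twist_toSubmodule, sbMap_toSubmodule,
    Submodule.map_span, Submodule.map_coe, ← Set.image_comp, ← Set.image_comp]
  congr 1
  refine Set.image_congr fun z _ => ?_
  simp [Units.coe_map_inv]

/-- the unit `1 ⊗ a` -/
noncomputable def oneTmul (R : Type u) [CommRing R] [Algebra k R] : Aˣ →* (R ⊗[k] A)ˣ :=
  Units.map ((Algebra.TensorProduct.includeRight : A →ₐ[k] R ⊗[k] A) : A →* R ⊗[k] A)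

lemma phiM_oneTmul (φ : R →ₐ[k] S) (a : Aˣ) :
    Units.map (phiM φ).toMonoidHom (oneTmul R a) = oneTmul S a :=
  Units.ext (by simp [oneTmul])

end Groth.Agent.SBAut
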